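import Cfsg.Agent.Lib.SL2Centralizer
import Cfsg.Agent.Lib.SL2Orders
import Cfsg.Agent.Lib.GW.Model.Pgl

/-!
Matrices inducing automorphisms of `SL₂(q)` and their squares modulo determinants.

* `Shape.ConjBy`: an automorphism is conjugation by a matrix; the matrix is unique up to a scalar;
* `Shape.eta`: `h² / det h`;
* `Shape.Tor`: the torus commuting with a matrix of trace zero, and a matrix in it with nonsquare determinant.
-/

set_option autoImplicit false
set_option linter.unusedSectionVars false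

namespace CfsgLib.RankTwoModel.Shape

open Matrix CfsgLib.PSL2
open scoped MatrixGroups

variable {F : Type} [Field F] [Fintype F]

local notation "M2" => Matrix (Fin 2) (Fin 2) F
local notation "SL" => Matrix.SpecialLinearGroup (Fin 2) F

/-- Conjugation by a matrix. -/
def ConjBy (φ : MulAut SL) (g : GL (Fin 2) F) : Prop := ∀ A : SL, (φ A).1 = g.1 * A.1 * (g⁻¹).1

theorem ConjBy.mul {φ ψ : MulAut SL} {g k : GL (Fin 2) F} (h : ConjBy φ g) (h' : ConjBy ψ k) :
    ConjBy (φ * ψ) (g * k) := fun A => by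
  rw [MulAut.mul_apply, h, h', _root_.mul_inv_rev, Units.val_mul, Units.val_mul]
  simp only [Matrix.mul_assoc]

theorem ConjBy.inv {φ : MulAut SL} {g : GL (Fin 2) F} (h : ConjBy φ g) : ConjBy φ⁻¹ g⁻¹ := fun A => by
  have h1 := h (φ⁻¹ A)
  rw [MulAut.apply_inv_self] at h1
  rw [inv_inv, h1]
  simp [Matrix.mul_assoc]

theorem conjBy_one : ConjBy (1 : MulAut SL) (1 : GL (Fin 2) F) := fun A => by simp

/-- A matrix commuting with the two unipotent generators is scalar. -/
theorem scalar_of_commute {k : M2} (h : ∀ A : SL, k * A.1 = A.1 * k) : k = k 0 0 • (1 : M2) := by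
  have e1 := h (PSL2.uSL 1)
  have e2 := h (PSL2.vSL 1)
  have a1 := congrFun (congrFun e1 0) 0
  have a2 := congrFun (congrFun e2 0) 0
  have a3 := congrFun (congrFun e1 0) 1
  simp [PSL2.coe_uSL, PSL2.coe_vSL, Matrix.mul_apply, Fin.sum_univ_two] at a1 a2 a3
  ext i j
  fin_cases i <;> fin_cases j <;> simp
  · exact a2
  · exact a1
  · linear_combination -a3

/-- **Uniqueness up to a scalar.** -/
theorem ConjBy.unique {φ : MulAut SL} {g k : GL (Fin 2) F} (h : ConjBy φ g) (h' : ConjBy φ k) :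
    ∃ a : F, a ≠ 0 ∧ k.1 = a • g.1 := by
  have hc : ∀ A : SL, (g⁻¹ * k).1 * A.1 = A.1 * (g⁻¹ * k).1 := fun A => by
    have e : g.1 * A.1 * (g⁻¹).1 = k.1 * A.1 * (k⁻¹).1 := (h A).symm.trans (h' A)
    have e2 := congrArg (fun X : M2 => (g⁻¹).1 * X * k.1) e
    simp only [Matrix.mul_assoc, Units.inv_mul_cancel_left, Units.inv_mul, mul_one] at e2
    rw [Units.val_mul, Matrix.mul_assoc, ← e2]
  have e := scalar_of_commute hc
  set a := (g⁻¹ * k).1 0 0
  have hk : k.1 = a • g.1 := by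
    have e2 := congrArg (fun X : M2 => g.1 * X) e
    simpa [Units.val_mul, ← Matrix.mul_assoc] using e2
  refine ⟨a, fun ha => ?_, hk⟩
  have := GW.Model.det_ne k
  rw [hk, ha, zero_smul, Matrix.det_zero] at this
  exact this rfl

theorem ConjBy.smul {φ : MulAut SL} {g k : GL (Fin 2) F} (h : ConjBy φ g) {a : F} (ha : a ≠ 0)
    (hk : k.1 = a • g.1) : ConjBy φ k := fun A => by
  have hki : (k⁻¹).1 = a⁻¹ • (g⁻¹).1 := Units.inv_eq_of_mul_eq_one_right (by
    rw [hk, Matrix.smul_mul, Matrix.mul_smul, smul_smul, mul_inv_cancel₀ ha, one_smul, Units.mul_inv])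
  rw [h, hk, hki, Matrix.smul_mul, Matrix.smul_mul, Matrix.mul_smul, smul_smul, mul_inv_cancel₀ ha, one_smul]

/-- `h² / det h`. -/
noncomputable def eta (h : GL (Fin 2) F) : SL :=
  ⟨(h.1.det)⁻¹ • (h.1 * h.1), by
    rw [Matrix.det_smul, Fintype.card_fin, Matrix.det_mul]
    field_simp [GW.Model.det_ne h]⟩

theorem eta_val (h : GL (Fin 2) F) : (eta h).1 = (h.1.det)⁻¹ • (h.1 * h.1) := rfl

theorem eta_mul {h k : GL (Fin 2) F} (hc : Commute h.1 k.1) : eta (h * k) = eta h * eta k := by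
  refine Subtype.ext ?_
  rw [Matrix.SpecialLinearGroup.coe_mul, eta_val, eta_val, eta_val, Units.val_mul, Matrix.det_mul, hc.symm.mul_mul_mul_comm,
    Matrix.smul_mul, Matrix.mul_smul, smul_smul, mul_inv]

theorem eta_smul {h k : GL (Fin 2) F} {a : F} (ha : a ≠ 0) (hk : k.1 = a • h.1) : eta k = eta h := by
  refine Subtype.ext ?_
  rw [eta_val, eta_val, hk, Matrix.det_smul, Fintype.card_fin, Matrix.smul_mul, Matrix.mul_smul, smul_smul,
    smul_smul]
  congr 1
  field_simp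

theorem eta_one : eta (1 : GL (Fin 2) F) = 1 := Subtype.ext (by simp [eta_val])

theorem eta_commute {h : GL (Fin 2) F} {g : M2} (hc : Commute h.1 g) : Commute (eta h).1 g :=
  (hc.mul_left hc).smul_left _

/-- The kernel of `eta` consists of scalars. -/
theorem scalar_of_eta {h : GL (Fin 2) F} (h2 : (2 : F) ≠ 0) (he : eta h = 1) :
    ∃ a : F, a ≠ 0 ∧ h.1 = a • (1 : M2) := by
  have hd := GW.Model.det_ne h
  have e : h.1 * h.1 = h.1.det • (1 : M2) := by
    have e1 : (h.1.det)⁻¹ • (h.1 * h.1) = (1 : M2) := congrArg Subtype.val he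
    have e2 := congrArg (fun X : M2 => h.1.det • X) e1
    simpa [smul_smul, hd] using e2
  have a00 := congrFun (congrFun e 0) 0
  have a01 := congrFun (congrFun e 0) 1
  have a10 := congrFun (congrFun e 1) 0
  have a11 := congrFun (congrFun e 1) 1
  simp [Matrix.mul_apply, Fin.sum_univ_two, Matrix.det_fin_two] at a00 a01 a10 a11
  have hdd : h.1 0 0 * h.1 1 1 - h.1 0 1 * h.1 1 0 ≠ 0 := by rwa [← Matrix.det_fin_two]
  have ht : h.1 0 0 + h.1 1 1 ≠ 0 := fun ht => by
    refine mul_ne_zero h2 hdd ?_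
    linear_combination (h.1 0 0) * ht - a00
  have h01 : h.1 0 1 = 0 :=
    (mul_eq_zero.mp (show h.1 0 1 * (h.1 0 0 + h.1 1 1) = 0 by linear_combination a01)).resolve_right ht
  have h10 : h.1 1 0 = 0 :=
    (mul_eq_zero.mp (show h.1 1 0 * (h.1 0 0 + h.1 1 1) = 0 by linear_combination a10)).resolve_right ht
  have h11 : h.1 1 1 = h.1 0 0 := by
    have : (h.1 0 0 - h.1 1 1) * (h.1 0 0 + h.1 1 1) = 0 := by linear_combination a00 - a11
    exact (sub_eq_zero.mp ((mul_eq_zero.mp this).resolve_right ht)).symm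
  refine ⟨h.1 0 0, fun e0 => ?_, ?_⟩
  · rw [e0, h01] at hdd; simp at hdd
  · ext i j
    fin_cases i <;> fin_cases j <;> simp [h01, h10, h11]

/-- The torus of a matrix of trace zero. -/
structure Tor (g : GL (Fin 2) F) where
  N : ℕ
  g0 : GL (Fin 2) F
  comm : Commute g0.1 g.1
  nsq : ¬ IsSquare g0.1.det
  ord : orderOf (eta g0) = N
  gen : ∀ A : SL, Commute A.1 g.1 → A ∈ Subgroup.zpowers (eta g0)
  cop : ∀ m M : ℕ, N * M = Nat.card SL → Odd m → m ∣ N → m ∣ M → m = 1

namespace Tor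

variable {g : GL (Fin 2) F} (T : Tor g)

theorem eta_comm : Commute (eta T.g0).1 g.1 := eta_commute T.comm

theorem pow_comm (i : ℤ) : Commute ((eta T.g0) ^ i).1 g.1 := by
  have h : ∀ A ∈ Subgroup.zpowers (eta T.g0), Commute A.1 g.1 := fun A hA => by
    rw [Subgroup.zpowers_eq_closure] at hA
    refine Subgroup.closure_induction (p := fun A _ => Commute (A : SL).1 g.1) ?_ ?_ ?_ ?_ hA
    · rintro x rfl; exact T.eta_comm
    · simp
    · intro x y _ _ hx hy
      rw [Matrix.SpecialLinearGroup.coe_mul]; exact hx.mul_left hy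
    · intro x _ hx
      have e : x⁻¹.1 * x.1 = 1 := by
        rw [← Matrix.SpecialLinearGroup.coe_mul, inv_mul_cancel, Matrix.SpecialLinearGroup.coe_one]
      show x⁻¹.1 * g.1 = g.1 * x⁻¹.1
      calc x⁻¹.1 * g.1 = x⁻¹.1 * (g.1 * x.1) * x⁻¹.1 := by
            rw [Matrix.mul_assoc, Matrix.mul_assoc, ← Matrix.SpecialLinearGroup.coe_mul x x⁻¹, mul_inv_cancel,
              Matrix.SpecialLinearGroup.coe_one, Matrix.mul_one]
        _ = x⁻¹.1 * (x.1 * g.1) * x⁻¹.1 := by rw [hx.eq]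
        _ = g.1 * x⁻¹.1 := by rw [← Matrix.mul_assoc x⁻¹.1, e, Matrix.one_mul]
  exact h _ ⟨i, rfl⟩

include T in
theorem even_N (h2 : (2 : F) ≠ 0) : Even T.N := by
  obtain ⟨i, hi⟩ := T.gen (-1) (by simp)
  have h1 : (eta T.g0 ^ i) ^ 2 = 1 := by rw [show eta T.g0 ^ i = -1 from hi, neg_one_sq]
  have hne : (-1 : SL) ≠ 1 := fun e => h2 (by
    have := congrFun (congrFun (congrArg Subtype.val e) 0) 0
    simp at this
    linear_combination -this)
  have ho : orderOf (eta T.g0 ^ i) = 2 :=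
    orderOf_eq_prime h1 (by rw [show eta T.g0 ^ i = -1 from hi]; exact hne)
  exact even_iff_two_dvd.mpr (ho ▸ T.ord ▸ orderOf_dvd_of_mem_zpowers (Subgroup.zpow_mem_zpowers _ i))

include T in
theorem pow_half (h2 : (2 : F) ≠ 0) : eta T.g0 ^ (T.N / 2) = -1 := by
  obtain ⟨k, hk⟩ := T.even_N h2
  have hN : 0 < T.N := T.ord ▸ orderOf_pos _
  refine ((SL2Orders.eq_one_or_neg_one_of_sq h2 (eta T.g0 ^ (T.N / 2)) ?_).resolve_left fun e => ?_)
  · rw [← pow_add, show T.N / 2 + T.N / 2 = T.N by omega, ← T.ord, pow_orderOf_eq_one]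
  · have := Nat.le_of_dvd (by omega) (T.ord ▸ orderOf_dvd_of_pow_eq_one e)
    omega

end Tor

end CfsgLib.RankTwoModel.Shape
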