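import Cfsg.Agent.Lib.RankTwoModel.Shape.Quotient
import Cfsg.Agent.Lib.SLCard

/-!
A split torus: the model is `GL₂(q)`.

* `exists_split_model`: if `-det g` is a square, `GL₂(q)` is a model over the torus of `g`.

Blueprint: `blueprint/RankTwo_P9.md` (central extension).
-/

set_option autoImplicit false
set_option linter.unusedSectionVars false
set_option linter.style.haveILetI false

namespace CfsgLib.RankTwoModel.Shape

open Matrix CfsgLib.PSL2
open scoped MatrixGroups

variable {F : Type} [Field F] [Fintype F]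

local notation "M2" => Matrix (Fin 2) (Fin 2) F
local notation "SL" => Matrix.SpecialLinearGroup (Fin 2) F

/-- `diag(a, 1)`. -/
def diagOne : Fˣ →* GL (Fin 2) F where
  toFun a := ⟨!![(a : F), 0; 0, 1], !![((a⁻¹ : Fˣ) : F), 0; 0, 1], by simp [Matrix.one_fin_two],
    by simp [Matrix.one_fin_two]⟩
  map_one' := Units.ext (by simp [Matrix.one_fin_two])
  map_mul' a b := Units.ext (by simp [Units.val_mul])

/-- `diag(a, a⁻¹)`. -/
def diagInv : Fˣ →* SL where
  toFun a := ⟨!![(a : F), 0; 0, ((a⁻¹ : Fˣ) : F)], by simp [Matrix.det_fin_two]⟩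
  map_one' := Subtype.ext (by
    simp only [inv_one, Units.val_one, Matrix.SpecialLinearGroup.coe_one]
    exact Matrix.one_fin_two.symm)
  map_mul' a b := Subtype.ext (by
    show (!![((a * b : Fˣ) : F), 0; 0, (((a * b)⁻¹ : Fˣ) : F)] : M2) =
      !![(a : F), 0; 0, ((a⁻¹ : Fˣ) : F)] * !![(b : F), 0; 0, ((b⁻¹ : Fˣ) : F)]
    simp [mul_comm])

@[simp] theorem diagOne_val (a : Fˣ) : (diagOne a).1 = !![(a : F), 0; 0, 1] := rfl

@[simp] theorem diagInv_val (a : Fˣ) : (diagInv a).1 = !![(a : F), 0; 0, ((a⁻¹ : Fˣ) : F)] := rfl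

theorem diagInv_injective : Function.Injective (diagInv (F := F)) := fun a b e => by
  have := congrArg (fun A : SL => A.1 0 0) e
  simpa [Units.ext_iff] using this

theorem diagOne_injective : Function.Injective (diagOne (F := F)) := fun a b e => by
  have := congrArg (fun A : GL (Fin 2) F => A.1 0 0) e
  simpa [Units.ext_iff] using this

/-- Eigenvectors of a matrix of trace zero. -/
theorem exists_diag {g : GL (Fin 2) F} (h2 : (2 : F) ≠ 0) (htr : g.1.trace = 0) {r : F} (hr : -g.1.det = r * r) :
    ∃ P : GL (Fin 2) F, g.1 * P.1 = P.1 * !![r, 0; 0, -r] := by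
  have hd := GW.Model.det_ne g
  have hr0 : r ≠ 0 := fun e => by rw [e, mul_zero, neg_eq_zero] at hr; exact hd hr
  have h11 : g.1 1 1 = -g.1 0 0 := by rw [Matrix.trace_fin_two] at htr; linear_combination htr
  rw [Matrix.det_fin_two, h11] at hr
  have hs : g.1 0 0 * g.1 0 0 + g.1 0 1 * g.1 1 0 = r * r := by linear_combination hr
  by_cases h10 : g.1 1 0 = 0
  · by_cases h01 : g.1 0 1 = 0
    · rw [h10, h01] at hs
      rcases mul_self_eq_mul_self_iff.mp (show g.1 0 0 * g.1 0 0 = r * r by linear_combination hs) with e | e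
      · refine ⟨1, ?_⟩
        ext i j
        fin_cases i <;> fin_cases j <;> simp [h10, h01, h11, e]
      · refine ⟨GeneralLinearGroup.mkOfDetNeZero !![0, 1; 1, 0] (by simp), ?_⟩
        ext i j
        fin_cases i <;> fin_cases j <;> simp [Matrix.mul_apply, Fin.sum_univ_two, h10, h01, h11, e]
    · refine ⟨GeneralLinearGroup.mkOfDetNeZero !![g.1 0 1, g.1 0 1; r - g.1 0 0, -r - g.1 0 0] (by
        rw [Matrix.det_fin_two_of]
        intro e
        exact mul_ne_zero (mul_ne_zero h2 h01) hr0 (by linear_combination -e)), ?_⟩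
      ext i j
      fin_cases i <;> fin_cases j <;> simp [Matrix.mul_apply, Fin.sum_univ_two, h11]
      all_goals first | ring1 | linear_combination hs
  · refine ⟨GeneralLinearGroup.mkOfDetNeZero !![g.1 0 0 + r, g.1 0 0 - r; g.1 1 0, g.1 1 0] (by
      rw [Matrix.det_fin_two_of]
      intro e
      exact mul_ne_zero (mul_ne_zero h2 h10) hr0 (by linear_combination e)), ?_⟩
    ext i j
    fin_cases i <;> fin_cases j <;> simp [Matrix.mul_apply, Fin.sum_univ_two, h11]
    all_goals first | ring1 | linear_combination hs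

/-- A generator of the units has full order, is a nonsquare and its half power is `-1`. -/
theorem exists_unit_gen (h2 : (2 : F) ≠ 0) : ∃ l : Fˣ, orderOf l = Fintype.card F - 1 ∧
    (∀ a : Fˣ, a ∈ Subgroup.zpowers l) ∧ ¬ IsSquare (l : F) ∧ l ^ ((Fintype.card F - 1) / 2) = -1 := by
  classical
  obtain ⟨l, hl⟩ := IsCyclic.exists_generator (α := Fˣ)
  have ho : orderOf l = Fintype.card F - 1 := by
    rw [orderOf_eq_card_of_forall_mem_zpowers hl, Nat.card_eq_fintype_card, Fintype.card_units]
  have hc : ringChar F ≠ 2 := fun e => h2 (by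
    have := ringChar.Nat.cast_ringChar (R := F)
    rw [e] at this
    exact_mod_cast this)
  have hodd := Nat.odd_iff.mp (Nat.odd_iff.mpr (FiniteField.odd_card_of_char_ne_two hc))
  have h1 := Fintype.one_lt_card (α := F)
  have hne : l ^ (Fintype.card F / 2) ≠ 1 := fun e => by
    have := Nat.le_of_dvd (by omega) (ho ▸ orderOf_dvd_of_pow_eq_one e)
    omega
  refine ⟨l, ho, hl, fun hsq => hne (Units.ext ?_), ?_⟩
  · rw [Units.val_pow_eq_pow_val]
    exact (FiniteField.isSquare_iff hc l.ne_zero).mp hsq
  · rw [show (Fintype.card F - 1) / 2 = Fintype.card F / 2 by omega]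
    refine Units.ext ?_
    rw [Units.val_pow_eq_pow_val, Units.val_neg, Units.val_one]
    exact (FiniteField.pow_dichotomy hc l.ne_zero).resolve_left fun e => hne (Units.ext (by simpa using e))

theorem card_SL :
    Nat.card SL = Fintype.card F * ((Fintype.card F - 1) * (Fintype.card F + 1)) := by
  classical
  have h1 := SLCard.card_units_mul_card_SL (F := F) (n := 2) (by norm_num)
  rw [Matrix.card_GL_field, Fin.prod_univ_two] at h1
  simp only [Fin.val_zero, pow_zero, Fin.val_one, pow_one] at h1
  have hq := Fintype.one_lt_card (α := F)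
  obtain ⟨b, hb⟩ : ∃ b, Fintype.card F = b + 1 := ⟨Fintype.card F - 1, by omega⟩
  rw [hb, Nat.add_sub_cancel] at h1 ⊢
  have e1 : (b + 1) ^ 2 - 1 = b * (b + 2) := Nat.sub_eq_of_eq_add (by ring)
  have e2 : (b + 1) ^ 2 - (b + 1) = (b + 1) * b := Nat.sub_eq_of_eq_add (by ring)
  rw [e1, e2] at h1
  exact Nat.eq_of_mul_eq_mul_left (show 0 < b by omega) (h1.trans (by ring))

/-- **The split case.** -/
theorem exists_split_model {g : GL (Fin 2) F} (h2 : (2 : F) ≠ 0) (htr : g.1.trace = 0)
    (hsq : IsSquare (-g.1.det)) : ∃ T : Tor g, Nonempty (Model2 (GL (Fin 2) F) T.g0 T.N) := by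
  classical
  obtain ⟨r, hr⟩ := hsq
  have hr0 : r ≠ 0 := fun e => by rw [e, mul_zero, neg_eq_zero] at hr; exact GW.Model.det_ne g hr
  obtain ⟨P, hP⟩ := exists_diag h2 htr hr
  obtain ⟨l, hl, hgen, hlsq, hhalf⟩ := exists_unit_gen h2
  set g0 := P * diagOne l * P⁻¹ with hg0
  have hgP : g.1 = P.1 * !![r, 0; 0, -r] * (P⁻¹).1 := by
    rw [← hP, Matrix.mul_assoc, Units.mul_inv, Matrix.mul_one]
  have hdetl : (diagOne l).1.det = (l : F) := by simp [Matrix.det_fin_two]
  have hdet0 : g0.1.det = (l : F) := by
    rw [hg0, Units.val_mul, Units.val_mul, Matrix.det_units_conj, hdetl]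
  have heta : eta g0 = conjSL P (diagInv l) := by
    refine Subtype.ext ?_
    show (g0.1.det)⁻¹ • (g0.1 * g0.1) = P.1 * (diagInv l).1 * (P⁻¹).1
    rw [hdet0, hg0, Units.val_mul, Units.val_mul,
      show P.1 * (diagOne l).1 * (P⁻¹).1 * (P.1 * (diagOne l).1 * (P⁻¹).1) =
        P.1 * ((diagOne l).1 * (diagOne l).1) * (P⁻¹).1 by
        simp only [Matrix.mul_assoc, Units.inv_mul_cancel_left],
      ← Matrix.smul_mul, ← Matrix.mul_smul]
    congr 2
    ext i j
    fin_cases i <;> fin_cases j <;> simp [Matrix.mul_apply, Fin.sum_univ_two]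
  have hordN : orderOf (eta g0) = Fintype.card F - 1 := by
    rw [heta, MulEquiv.orderOf_eq (conjSL P), orderOf_injective _ diagInv_injective, hl]
  have hcommg : ∀ (M : M2), Commute M !![r, 0; 0, -r] → Commute (P.1 * M * (P⁻¹).1) g.1 := fun M hM => by
    rw [hgP]
    show P.1 * M * (P⁻¹).1 * (P.1 * !![r, 0; 0, -r] * (P⁻¹).1) = P.1 * !![r, 0; 0, -r] * (P⁻¹).1 * (P.1 * M * (P⁻¹).1)
    simp only [Matrix.mul_assoc, Units.inv_mul_cancel_left]
    rw [← Matrix.mul_assoc M, hM.eq, Matrix.mul_assoc]
  let T : Tor g :=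
    { N := Fintype.card F - 1
      g0 := g0
      comm := by
        rw [hg0, Units.val_mul, Units.val_mul]
        refine hcommg _ ?_
        show _ = _
        ext i j
        fin_cases i <;> fin_cases j <;> simp [Matrix.mul_apply, Fin.sum_univ_two, mul_comm]
      nsq := by rw [hdet0]; exact hlsq
      ord := hordN
      gen := fun A hA => by
        set B := (conjSL P).symm A with hB
        have hBd : Commute B.1 !![r, 0; 0, -r] := by
          show (P⁻¹).1 * A.1 * P.1 * _ = _ * ((P⁻¹).1 * A.1 * P.1)
          have e := hA.eq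
          rw [hgP] at e
          have e2 := congrArg (fun M : M2 => (P⁻¹).1 * M * P.1) e
          simp only [Matrix.mul_assoc, Units.inv_mul_cancel_left, Units.inv_mul, Matrix.mul_one] at e2
          simp only [Matrix.mul_assoc]
          exact e2
        have e01 := congrFun (congrFun hBd.eq 0) 1
        have e10 := congrFun (congrFun hBd.eq 1) 0
        simp [Matrix.mul_apply, Fin.sum_univ_two] at e01 e10
        have h01 : B.1 0 1 = 0 := (mul_eq_zero.mp (show B.1 0 1 * (2 * r) = 0 by linear_combination -e01)).resolve_right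
          (mul_ne_zero h2 hr0)
        have h10 : B.1 1 0 = 0 := (mul_eq_zero.mp (show B.1 1 0 * (2 * r) = 0 by linear_combination e10)).resolve_right
          (mul_ne_zero h2 hr0)
        have hd : B.1 0 0 * B.1 1 1 = 1 := by
          have := B.2
          rw [Matrix.det_fin_two, h01, zero_mul, sub_zero] at this
          exact this
        obtain ⟨k, hk⟩ := hgen ⟨B.1 0 0, B.1 1 1, hd, by rw [mul_comm, hd]⟩
        refine ⟨k, ?_⟩
        change l ^ k = _ at hk
        show eta g0 ^ k = A
        rw [heta, ← map_zpow, ← map_zpow, hk, show diagInv _ = B from Subtype.ext (by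
          ext i j
          fin_cases i <;> fin_cases j <;> simp [h01, h10]), hB, MulEquiv.apply_symm_apply]
      cop := fun m M hM hm hmN hmM => by
        set q := Fintype.card F with hq
        have h1 : 1 < q := Fintype.one_lt_card
        rw [card_SL, mul_left_comm, Nat.mul_left_cancel_iff (by omega)] at hM
        rw [hM] at hmM
        have h3 : m.Coprime q := by
          refine Nat.Coprime.coprime_dvd_left hmN ?_
          rw [Nat.coprime_comm]
          exact ((Nat.coprime_self_sub_right (by omega)).mpr (Nat.coprime_one_right q))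
        have h4 : m ∣ q + 1 := h3.dvd_of_dvd_mul_left hmM
        have h5 : m ∣ 2 := by
          have := Nat.dvd_sub h4 hmN
          rwa [show q + 1 - (q - 1) = 2 by omega] at this
        rcases (Nat.dvd_prime Nat.prime_two).mp h5 with e | e
        · exact e
        · rw [e] at hm; exact absurd hm (by decide) }
  refine ⟨T, ⟨?_⟩⟩
  let iW : SL →* GL (Fin 2) F := (MulAut.conj P⁻¹).toMonoidHom.comp Matrix.SpecialLinearGroup.toGL
  have hi : ∀ A : SL, (iW A).1 = (P⁻¹).1 * A.1 * P.1 := fun A => by
    show (P⁻¹ * Matrix.SpecialLinearGroup.toGL A * P⁻¹⁻¹).1 = _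
    rw [inv_inv, Units.val_mul, Units.val_mul]
    rfl
  have hid : ∀ A : SL, (iW A).1.det = 1 := fun A => by rw [hi, Matrix.det_units_conj', A.2]
  have hA : ∀ A : SL, A.1 = P.1 * (iW A).1 * (P⁻¹).1 := fun A => by
    rw [hi]
    simp only [← Matrix.mul_assoc, Units.mul_inv, Matrix.one_mul]
    rw [Matrix.mul_assoc, Units.mul_inv, Matrix.mul_one]
  exact
    { i := iW
      δ := diagOne l
      ord := by rw [orderOf_injective _ diagOne_injective, hl]
      disj := fun A n e => by
        have h1 := congrArg (fun M : GL (Fin 2) F => M.1.det) e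
        simp only [hid, ← map_pow, diagOne] at h1
        simp [Matrix.det_fin_two] at h1
        have h3 : l ^ n = 1 := Units.ext (by simpa using h1.symm)
        have h4 : iW A = 1 := by rw [e, ← map_pow, h3, map_one]
        refine Subtype.ext ?_
        rw [hA, h4, Units.val_one, Matrix.mul_one, Units.mul_inv]
        rfl
      gen := fun w => by
        obtain ⟨n, hn⟩ := (mem_powers_iff_mem_zpowers (x := l) (y := Matrix.GeneralLinearGroup.det w)).mpr (hgen _)
        simp only at hn
        set v := w * (diagOne l ^ n)⁻¹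
        have hv : v.1.det = 1 := by
          have h1 : Matrix.GeneralLinearGroup.det (diagOne l) = l := Units.ext (by simpa using hdetl)
          have := congrArg Units.val (show Matrix.GeneralLinearGroup.det v = 1 by
            rw [map_mul, map_inv, map_pow, h1, hn, mul_inv_cancel])
          simpa using this
        let A' : SL := ⟨P.1 * v.1 * (P⁻¹).1, by rw [Matrix.det_units_conj, hv]⟩
        refine ⟨A', n, ?_⟩
        have hiv : iW A' = v := Units.ext (by
          rw [hi]
          show (P⁻¹).1 * (P.1 * v.1 * (P⁻¹).1) * P.1 = v.1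
          simp only [Matrix.mul_assoc, Units.inv_mul_cancel_left, Units.inv_mul, Matrix.mul_one])
        rw [hiv, inv_mul_cancel_right]
      conj := fun A => Units.ext (by
        rw [Units.val_mul, Units.val_mul, hi, hi]
        show (diagOne l).1 * ((P⁻¹).1 * A.1 * P.1) = (P⁻¹).1 * (g0.1 * A.1 * (g0⁻¹).1) * P.1 * (diagOne l).1
        rw [hg0, _root_.mul_inv_rev, _root_.mul_inv_rev, inv_inv]
        simp only [Units.val_mul, Matrix.mul_assoc, Units.inv_mul_cancel_left, Units.inv_mul, Matrix.mul_one])
      A0 := conjSL P (diagInv l⁻¹)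
      A0_spec := ⟨(l : F), by
        show P.1 * (diagInv l⁻¹).1 * (P⁻¹).1 * (g0 * g0).1 = (l : F) • (1 : M2)
        rw [hg0, Units.val_mul, Units.val_mul, Units.val_mul]
        simp only [Matrix.mul_assoc, Units.inv_mul_cancel_left]
        rw [show (diagInv l⁻¹).1 * ((diagOne l).1 * ((diagOne l).1 * (P⁻¹).1)) =
          ((diagInv l⁻¹).1 * ((diagOne l).1 * (diagOne l).1)) * (P⁻¹).1 by simp only [Matrix.mul_assoc],
          show (diagInv l⁻¹).1 * ((diagOne l).1 * (diagOne l).1) = (l : F) • (1 : M2) by
            ext i j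
            fin_cases i <;> fin_cases j <;> simp [Matrix.mul_apply, Fin.sum_univ_two],
          Matrix.smul_mul, Matrix.one_mul, Matrix.mul_smul, Units.mul_inv]⟩
      half := by
        have e : iW (conjSL P (diagInv l⁻¹)) * diagOne l ^ 2 = Units.map (algebraMap F M2).toMonoidHom l :=
          Units.ext (by
            rw [Units.val_mul, hi, Units.val_pow_eq_pow_val]
            show (P⁻¹).1 * (P.1 * (diagInv l⁻¹).1 * (P⁻¹).1) * P.1 * _ = algebraMap F M2 (l : F)
            simp only [Matrix.mul_assoc, Units.inv_mul_cancel_left]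
            ext i j
            fin_cases i <;> fin_cases j <;>
              simp [Matrix.mul_apply, Fin.sum_univ_two, pow_two, Matrix.algebraMap_matrix_apply])
        show (iW (conjSL P (diagInv l⁻¹)) * diagOne l ^ 2) ^ ((Fintype.card F - 1) / 2) = iW (-1)
        rw [e, ← map_pow, hhalf]
        refine Units.ext ?_
        rw [hi]
        show algebraMap F M2 ((-1 : Fˣ) : F) = (P⁻¹).1 * (-1 : M2) * P.1
        simp
      cen := by
        rintro A n ⟨a, ha⟩
        refine Subgroup.mem_center_iff.mpr fun w => Units.ext ?_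
        have e : (iW A * diagOne l ^ n).1 = a • (1 : M2) := by
          have h1 : g0 ^ n = P * diagOne l ^ n * P⁻¹ := by rw [hg0, conj_pow]
          change A.1 * (g0 ^ n).1 = _ at ha
          rw [h1] at ha
          have h2 := congrArg (fun M : M2 => (P⁻¹).1 * M * P.1) ha
          simp only [Units.val_mul, Matrix.mul_assoc, Units.inv_mul, Matrix.mul_one, Matrix.smul_mul,
            Matrix.mul_smul, Matrix.one_mul] at h2
          rw [Units.val_mul, hi]
          simp only [Matrix.mul_assoc]
          exact h2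
        rw [Units.val_mul w, Units.val_mul _ w, e, Matrix.mul_smul, Matrix.smul_mul, Matrix.mul_one, Matrix.one_mul]
      invol := fun w hw ho => by
        have hs : ∀ A : SL, w.1 * A.1 = A.1 * w.1 := fun A => by
          have := congrArg Units.val (Subgroup.mem_center_iff.mp hw (Matrix.SpecialLinearGroup.toGL A))
          simpa using this.symm
        have e := scalar_of_commute hs
        set a := w.1 0 0
        have hww : (a • (1 : M2)) * (a • 1) = 1 := by
          rw [← e, ← Units.val_mul, show w * w = 1 from (pow_two w).symm.trans (orderOf_dvd_iff_pow_eq_one.mp ho.dvd), Units.val_one]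
        have h00 : a * a = 1 := by simpa [Matrix.mul_apply, Fin.sum_univ_two] using congrFun (congrFun hww 0) 0
        rcases mul_self_eq_one_iff.mp h00 with e1 | e1
        · exfalso
          rw [e1, one_smul] at e
          rw [show w = 1 from Units.ext e, orderOf_one] at ho
          omega
        · refine Units.ext ?_
          rw [hi, e, e1]
          show _ = (P⁻¹).1 * (-1 : M2) * P.1
          simp }

end CfsgLib.RankTwoModel.Shape
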