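import Cfsg.Agent.Lib.RankTwoModel.Shape.Quotient
import Cfsg.Agent.Lib.RankTwoModel.Shape.Split
import Cfsg.Agent.Lib.U3Cent.Iso

/-!
A nonsplit torus: the model is the unitary group of a hyperbolic line.

* `exists_quad_ext`: the quadratic extension with a square root;
* `exists_nonsplit_model`: if `-det g` is not a square, the unitary group is a model over the torus of `g`.

Blueprint: `blueprint/RankTwo_P9.md` (central extension).
-/

set_option autoImplicit false
set_option linter.unusedSectionVars false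
set_option linter.style.haveILetI false
set_option maxHeartbeats 800000

namespace CfsgLib.RankTwoModel.Shape

open Matrix CfsgLib.PSL2 CfsgLib.PSUBorel CfsgLib.U3Cent
open scoped MatrixGroups

variable {F : Type} [Field F] [Fintype F]

local notation "M2" => Matrix (Fin 2) (Fin 2) F
local notation "SL" => Matrix.SpecialLinearGroup (Fin 2) F

/-- The quadratic extension. -/
theorem exists_quad_ext {δ : F} (hδ : ¬ IsSquare δ) :
    ∃ (K : Type) (_ : Field K) (_ : Fintype K) (ι : F →+* K) (r : K),
      Fintype.card K = Fintype.card F ^ 2 ∧ r * r = ι δ := by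
  classical
  set f : Polynomial F := Polynomial.X ^ 2 - Polynomial.C δ with hf
  have hirr : Irreducible f := X_pow_sub_C_irreducible_of_prime Nat.prime_two fun b hb => hδ ⟨b, by rw [← hb, pow_two]⟩
  haveI : Fact (Irreducible f) := ⟨hirr⟩
  let pb := AdjoinRoot.powerBasis hirr.ne_zero
  haveI : Module.Finite F (AdjoinRoot f) := pb.finite
  haveI : Finite (AdjoinRoot f) := Module.finite_of_finite F
  haveI : Fintype (AdjoinRoot f) := Fintype.ofFinite _
  refine ⟨AdjoinRoot f, inferInstance, inferInstance, AdjoinRoot.of f, AdjoinRoot.root f, ?_, ?_⟩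
  · rw [Module.card_eq_pow_finrank (K := F), pb.finrank, AdjoinRoot.powerBasis_dim, hf,
      Polynomial.natDegree_X_pow_sub_C]
  · have h := AdjoinRoot.eval₂_root f
    rw [hf, Polynomial.eval₂_sub, Polynomial.eval₂_pow, Polynomial.eval₂_X, Polynomial.eval₂_C, sub_eq_zero] at h
    rw [← pow_two]
    exact h

/-- **The nonsplit case.** -/
theorem exists_nonsplit_model {g : GL (Fin 2) F} (h2 : (2 : F) ≠ 0) (htr : g.1.trace = 0)
    (hns : ∀ a : F, g.1 ≠ a • (1 : M2)) (hsq : ¬ IsSquare (-g.1.det)) :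
    ∃ (K : Type) (_ : Field K) (_ : Fintype K) (c : Conj K), c.q = Fintype.card F ∧
      ∃ T : Tor g, Nonempty (Model2 (W c) T.g0 T.N) := by
  classical
  set δ := -g.1.det with hδ
  obtain ⟨K, fK, ftK, ι, r, hcard, hr⟩ := exists_quad_ext hsq
  obtain ⟨σ, hσ⟩ := (CfsgLib.UnitaryBasic.frob_exists hcard).2
  let c : Conj K := ⟨Fintype.card F, σ, hcard, hσ⟩
  refine ⟨K, fK, ftK, c, rfl, ?_⟩
  set q := Fintype.card F with hq
  have hq1 : 1 < q := Fintype.one_lt_card
  have hc : ringChar F ≠ 2 := fun e => h2 (by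
    have := ringChar.Nat.cast_ringChar (R := F)
    rw [e] at this
    exact_mod_cast this)
  have hqodd := FiniteField.odd_card_of_char_ne_two hc
  have hι : Function.Injective ι := ι.injective
  have hδ0 : δ ≠ 0 := neg_ne_zero.mpr (GW.Model.det_ne g)
  have hr0 : r ≠ 0 := fun e => hδ0 (hι (by rw [map_zero, ← hr, e, mul_zero]))
  have hrF : ∀ a : F, r ≠ ι a := fun a e => hsq ⟨a, hι (by rw [map_mul, ← e, hr])⟩
  have h2K : (2 : K) ≠ 0 := by
    rw [← map_ofNat ι 2]
    exact (map_ne_zero ι).mpr h2
  have hσι : ∀ a, σ (ι a) = ι a := fun a => by rw [hσ, ← map_pow, FiniteField.pow_card]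
  have hσr : σ r = -r := by
    obtain ⟨m, hm⟩ : Odd q := Nat.odd_iff.mpr (by omega)
    rw [hσ, hm, pow_succ, pow_mul, pow_two, hr, ← map_pow, show δ ^ m = -1 by
      have h1 := FiniteField.isSquare_iff hc hδ0
      have h3 := (FiniteField.pow_dichotomy hc hδ0).resolve_left fun e => hsq (h1.mpr e)
      rwa [show Fintype.card F / 2 = m by omega] at h3, map_neg, map_one, neg_one_mul]
  -- coordinates
  have hinj : Function.Injective fun p : F × F => ι p.1 + r * ι p.2 := by
    rintro ⟨a, b⟩ ⟨a', b'⟩ e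
    simp only at e
    by_cases hb : b = b'
    · subst hb
      simpa using hι (add_right_cancel e)
    · refine absurd ?_ (hrF ((a' - a) / (b - b')))
      rw [map_div₀, map_sub, map_sub, eq_div_iff (sub_ne_zero.mpr (hι.ne hb))]
      linear_combination e
  let E : F × F ≃ K := Equiv.ofBijective _ ((Fintype.bijective_iff_injective_and_card _).mpr ⟨hinj, by
    rw [Fintype.card_prod, hcard, pow_two]⟩)
  have hE : ∀ a b, E (a, b) = ι a + r * ι b := fun a b => rfl
  have hgg : g.1 * g.1 = δ • (1 : M2) := by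
    rw [Matrix.trace_fin_two] at htr
    ext i j
    fin_cases i <;> fin_cases j <;> simp [hδ, Matrix.mul_apply, Fin.sum_univ_two, Matrix.det_fin_two]
    · linear_combination (g.1 0 0) * htr
    · linear_combination (g.1 0 1) * htr
    · linear_combination (g.1 1 0) * htr
    · linear_combination (g.1 1 1) * htr
  let φ : K →* M2 :=
    { toFun := fun x => (E.symm x).1 • (1 : M2) + (E.symm x).2 • g.1
      map_one' := by
        rw [show (1 : K) = E (1, 0) by rw [hE]; simp, E.symm_apply_apply]
        simp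
      map_mul' := fun x y => by
        obtain ⟨⟨a, b⟩, rfl⟩ := E.surjective x
        obtain ⟨⟨a', b'⟩, rfl⟩ := E.surjective y
        rw [show E (a, b) * E (a', b') = E (a * a' + δ * (b * b'), a * b' + b * a') by
          simp only [hE, map_add, map_mul]
          linear_combination (ι b * ι b') * hr]
        simp only [E.symm_apply_apply, Matrix.add_mul, Matrix.mul_add, Matrix.smul_mul, Matrix.mul_smul,
          Matrix.one_mul, Matrix.mul_one, hgg]
        module }
  have hφ : ∀ a b, φ (E (a, b)) = a • (1 : M2) + b • g.1 := fun a b => by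
    show (E.symm (E (a, b))).1 • (1 : M2) + (E.symm (E (a, b))).2 • g.1 = _
    rw [E.symm_apply_apply]
  have hφinj : Function.Injective φ := fun x y e => by
    obtain ⟨⟨a, b⟩, rfl⟩ := E.surjective x
    obtain ⟨⟨a', b'⟩, rfl⟩ := E.surjective y
    rw [hφ, hφ] at e
    obtain ⟨e1, e2⟩ := SL2Centralizer.lin_injective hns e
    rw [e1, e2]
  have hφι : ∀ (a : F) (x : K), φ (ι a * x) = a • φ x := fun a x => by
    rw [map_mul, show ι a = E (a, 0) by rw [hE]; simp, hφ, zero_smul, add_zero, Matrix.smul_mul, Matrix.one_mul]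
  have hdet : ∀ x, ι (φ x).det = x * σ x := fun x => by
    obtain ⟨⟨a, b⟩, rfl⟩ := E.surjective x
    rw [hφ, hE, map_add, map_mul, hσι, hσι, hσr]
    rw [show (a • (1 : M2) + b • g.1).det = a * a - δ * (b * b) by
      have ht := htr
      rw [Matrix.trace_fin_two] at ht
      simp only [hδ, Matrix.det_fin_two, Matrix.add_apply, Matrix.smul_apply, Matrix.one_apply_eq,
        Matrix.one_apply_ne, ne_eq, zero_ne_one, one_ne_zero, not_false_eq_true, smul_eq_mul]
      linear_combination (a * b) * ht]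
    simp only [map_sub, map_mul]
    linear_combination (ι b * ι b) * hr
  have hcommφ : ∀ x, Commute (φ x) g.1 := fun x => by
    rw [show g.1 = φ (E (0, 1)) by rw [hφ]; simp]
    exact (Commute.all x _).map φ
  -- the generator
  obtain ⟨ω, hω, hωgen, -, hωhalf⟩ := exists_unit_gen (F := K) h2K
  rw [hcard] at hω hωhalf
  set σu : Kˣ →* Kˣ := Units.map σ.toMonoidHom
  have hσu : ∀ x : Kˣ, σu x = x ^ q := fun x => Units.ext (by
    rw [Units.val_pow_eq_pow_val]; exact hσ _)
  set μ := ω * (σu ω)⁻¹ with hμ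
  have hμinv : μ⁻¹ = ω ^ (q - 1) := by
    obtain ⟨m, hm⟩ : ∃ m, q = m + 1 := ⟨q - 1, by omega⟩
    rw [hμ, hσu, hm, Nat.add_sub_cancel, _root_.mul_inv_rev, inv_inv, pow_succ]
    group
  have hprod : (q - 1) * (q + 1) = q ^ 2 - 1 := by
    rw [mul_comm, ← Nat.sq_sub_sq, one_pow]
  have hμo : orderOf μ = q + 1 := by
    rw [← orderOf_inv, hμinv, orderOf_pow' ω (by omega), hω, ← hprod, Nat.gcd_mul_right_left,
      Nat.mul_div_cancel_left _ (by omega)]
  have hnorm : ∀ x : Kˣ, (x : K) * σ x = 1 → x ∈ Subgroup.zpowers μ := fun x hx => by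
    obtain ⟨n, rfl⟩ := (mem_powers_iff_mem_zpowers (x := ω) (y := x)).mpr (hωgen x)
    have h1 : ω ^ (n * (q + 1)) = 1 := Units.ext (by
      rw [Units.val_one, pow_mul, pow_succ', Units.val_mul, Units.val_pow_eq_pow_val (ω ^ n) q, ← hσ]
      exact hx)
    have h3 : (q - 1) * (q + 1) ∣ n * (q + 1) := by rw [hprod, ← hω]; exact orderOf_dvd_of_pow_eq_one h1
    obtain ⟨k, hk⟩ := Nat.dvd_of_mul_dvd_mul_right (by omega) h3
    show ω ^ n ∈ Subgroup.zpowers μ
    rw [hk, pow_mul, ← hμinv]
    exact pow_mem (inv_mem (Subgroup.mem_zpowers μ)) k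
  have hμnorm : ∀ x ∈ Subgroup.zpowers μ, (x : K) * σ x = 1 := fun x hx => by
    obtain ⟨k, rfl⟩ := Subgroup.mem_zpowers_iff.mp hx
    have h1 : μ ^ k * σu (μ ^ k) = 1 := by
      rw [hσu, ← pow_succ', ← zpow_natCast, ← _root_.zpow_mul, mul_comm, _root_.zpow_mul, zpow_natCast, ← hμo, pow_orderOf_eq_one,
        _root_.one_zpow]
    exact congrArg Units.val h1
  have hμω : μ⁻¹ * (ω * ω) = ω * σu ω := by
    rw [hμ, _root_.mul_inv_rev, inv_inv, mul_assoc, inv_mul_cancel_left, mul_comm]
  have hμ2 : (σu ω)⁻¹ ^ 2 * (ω * σu ω) = μ := by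
    rw [hμ, pow_two, mul_comm ω (σu ω), ← mul_assoc, inv_mul_cancel_right, mul_comm]
  let φu : Kˣ →* GL (Fin 2) F := Units.map φ
  set g0 := φu ω with hg0
  have hωσ : (ω : K) * σ ω = ι g0.1.det := (hdet _).symm
  have hdet0ω : ι g0.1.det = ((ω ^ (q + 1) : Kˣ) : K) := by
    rw [← hωσ, hσ, ← pow_succ', Units.val_pow_eq_pow_val]
  let φN : ↥(Subgroup.zpowers μ) →* SL :=
    MonoidHom.mk' (fun x => ⟨φ ((x : Kˣ) : K), hι (by rw [hdet, map_one]; exact hμnorm x x.2)⟩) fun x y =>
      Subtype.ext (map_mul φ ((x : Kˣ) : K) ((y : Kˣ) : K))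
  have hφN : Function.Injective φN := fun x y e => Subtype.ext (Units.ext (hφinj (congrArg Subtype.val e)))
  have heta : eta g0 = φN ⟨μ, Subgroup.mem_zpowers μ⟩ := Subtype.ext (by
    show (g0.1.det)⁻¹ • (φ ω * φ ω) = φ ((μ : Kˣ) : K)
    rw [← map_mul, ← hφι, map_inv₀, ← hωσ, hμ]
    congr 1
    simp only [Units.val_mul, Units.val_inv_eq_inv_val, σu, Units.coe_map, RingHom.toMonoidHom_eq_coe,
      MonoidHom.coe_coe]
    field_simp)
  have hordN : orderOf (eta g0) = q + 1 := by
    rw [heta, orderOf_injective φN hφN, Subgroup.orderOf_mk, hμo]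
  let T : Tor g :=
    { N := q + 1
      g0 := g0
      comm := hcommφ _
      nsq := fun ⟨s, hs⟩ => by
        have hs0 : s ≠ 0 := fun e => GW.Model.det_ne g0 (by rw [hs, e, mul_zero])
        have h1 : g0.1.det ^ ((q - 1) / 2) = 1 := by
          rw [hs, ← pow_two, ← pow_mul, show 2 * ((q - 1) / 2) = q - 1 by omega]
          exact FiniteField.pow_card_sub_one_eq_one s hs0
        have h3 : ω ^ ((q + 1) * ((q - 1) / 2)) = 1 := Units.ext (by
          rw [pow_mul, Units.val_pow_eq_pow_val, ← hdet0ω, ← map_pow, h1, map_one, Units.val_one])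
        have h4 : (q ^ 2 - 1) / 2 = (q + 1) * ((q - 1) / 2) := by
          rw [← hprod, mul_comm (q - 1), Nat.mul_div_assoc _ (by omega : 2 ∣ q - 1)]
        rw [h4, h3] at hωhalf
        have h5 := congrArg Units.val hωhalf
        rw [Units.val_neg, Units.val_one] at h5
        exact h2K (by linear_combination h5)
      ord := hordN
      gen := fun A hA => by
        obtain ⟨a, b, e⟩ := SL2Centralizer.exists_of_commute hns hA
        rw [← hφ] at e
        have h1 : E (a, b) * σ (E (a, b)) = 1 := by rw [← hdet, ← e, A.2, map_one]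
        have hne : E (a, b) ≠ 0 := fun e0 => by rw [e0, zero_mul] at h1; exact zero_ne_one h1
        obtain ⟨k, hk⟩ := Subgroup.mem_zpowers_iff.mp (hnorm (Units.mk0 _ hne) h1)
        refine ⟨k, ?_⟩
        show eta g0 ^ k = A
        rw [heta, ← map_zpow]
        refine Subtype.ext ?_
        show φ (((μ ^ k : Kˣ) : K)) = A.1
        rw [hk, e]
        rfl
      cop := fun m M hM hm hmN hmM => by
        rw [card_SL, ← hq] at hM
        have hM' : M = q * (q - 1) := Nat.eq_of_mul_eq_mul_left (show 0 < q + 1 by omega) (hM.trans (by ring))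
        rw [hM'] at hmM
        have h3 : m.Coprime q := Nat.Coprime.coprime_dvd_left hmN (by simp)
        have h4 : m ∣ q - 1 := h3.dvd_of_dvd_mul_left hmM
        have h5 : m ∣ 2 := by
          have := Nat.dvd_sub hmN h4
          rwa [show q + 1 - (q - 1) = 2 by omega] at this
        rcases (Nat.dvd_prime Nat.prime_two).mp h5 with e | e
        · exact e
        · rw [e] at hm; exact absurd hm (by decide) }
  refine ⟨T, ⟨?_⟩⟩
  -- the unitary group
  let sc : Kˣ →* GL (Fin 2) K := Units.map (algebraMap K (Matrix (Fin 2) (Fin 2) K)).toMonoidHom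
  have hsc : ∀ (x : Kˣ) (w : GL (Fin 2) K), sc x * w = w * sc x := fun x w =>
    Units.ext (Algebra.commutes (x : K) w.1)
  set ru := Units.mk0 r hr0
  let ιM : GL (Fin 2) F →* GL (Fin 2) K :=
    (MulAut.conj (diagOne (F := K) ru)).toMonoidHom.comp (Matrix.GeneralLinearGroup.map ι)
  have hιM : ∀ A : GL (Fin 2) F, (ιM A).1 =
      !![ι (A.1 0 0), r * ι (A.1 0 1); ι (A.1 1 0) * r⁻¹, ι (A.1 1 1)] := fun A => by
    show (diagOne ru * Matrix.GeneralLinearGroup.map ι A * (diagOne ru)⁻¹).1 = _
    have hdi : ((diagOne ru)⁻¹).1 = !![r⁻¹, 0; 0, 1] := by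
      rw [← map_inv diagOne ru, diagOne_val]
      simp [ru]
    rw [Units.val_mul, Units.val_mul, hdi, show (Matrix.GeneralLinearGroup.map ι A).1 = A.1.map ι from rfl,
      diagOne_val]
    ext i j
    fin_cases i <;> fin_cases j <;>
      simp [ru, Matrix.mul_apply, Fin.sum_univ_two, Matrix.vecMul, dotProduct]
    all_goals first | field_simp | ring
  have hscv : ∀ (x : Kˣ) (A : GL (Fin 2) F), (sc x * ιM A).1 =
      !![(x : K) * ι (A.1 0 0), x * (r * ι (A.1 0 1)); x * (ι (A.1 1 0) * r⁻¹), x * ι (A.1 1 1)] := fun x A => by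
    rw [Units.val_mul, hιM]
    show algebraMap K _ (x : K) * _ = _
    rw [← Algebra.smul_def]
    ext i j
    fin_cases i <;> fin_cases j <;> simp
  have hmemW : ∀ (x : Kˣ) (A : GL (Fin 2) F), (x : K) * σ x * ι A.1.det = 1 → sc x * ιM A ∈ W c := by
    intro x A h
    rw [mem_W, hscv]
    simp only [Matrix.of_apply, Matrix.cons_val', Matrix.cons_val_zero, Matrix.cons_val_one,
      Matrix.cons_val_fin_one, map_mul, map_inv₀, show c.σ = σ from rfl, hσι, hσr]
    rw [Matrix.det_fin_two, map_sub, map_mul, map_mul] at h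
    refine ⟨by ring, ?_, by ring⟩
    field_simp
    linear_combination h
  have hmem1 : ∀ A : SL, ιM (Matrix.SpecialLinearGroup.toGL A) ∈ W c := fun A => by
    have := hmemW 1 (Matrix.SpecialLinearGroup.toGL A) (by
      rw [show (Matrix.SpecialLinearGroup.toGL A).1.det = 1 from A.2]; simp)
    rwa [map_one, one_mul] at this
  let iW : SL →* W c := (ιM.comp Matrix.SpecialLinearGroup.toGL).codRestrict (W c) hmem1
  set ν := (σu ω)⁻¹ with hν
  have hνn : (ν : K) * σ ν * ι g0.1.det = 1 := by
    rw [← hωσ]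
    have h1 : σ ((σu ω : Kˣ) : K) = ω := c.invol _
    rw [hν, Units.val_inv_eq_inv_val, map_inv₀, h1]
    show ((σ ω) : K)⁻¹ * (ω : K)⁻¹ * _ = 1
    field_simp
  set δW : W c := ⟨sc ν * ιM g0, hmemW ν g0 hνn⟩ with hδW
  have hδpow : ∀ n : ℕ, (δW ^ n : W c).1 = sc (ν ^ n) * ιM (φu (ω ^ n)) := fun n => by
    rw [SubmonoidClass.coe_pow, map_pow, map_pow, map_pow]
    exact (show Commute (sc ν) (ιM g0) from hsc _ _).mul_pow n
  have hιMdet : ∀ A : GL (Fin 2) F, (ιM A).1.det = ι A.1.det := fun A => by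
    rw [hιM, Matrix.det_fin_two_of, Matrix.det_fin_two, map_sub, map_mul, map_mul]
    field_simp
  have hscdet : ∀ x : Kˣ, (sc x).1.det = (x : K) * x := fun x => by
    show (algebraMap K (Matrix (Fin 2) (Fin 2) K) (x : K)).det = _
    rw [Matrix.det_fin_two]
    simp [Matrix.algebraMap_matrix_apply]
  have hδdet : ∀ n : ℕ, (δW ^ n : W c).1.1.det = ((μ ^ n : Kˣ) : K) := fun n => by
    rw [hδpow, Units.val_mul, Matrix.det_mul, hscdet, hιMdet]
    show _ * ι (φ ((ω ^ n : Kˣ) : K)).det = _
    rw [hdet]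
    change ((ν ^ n : Kˣ) : K) * (ν ^ n : Kˣ) * (((ω ^ n : Kˣ) : K) * (σu (ω ^ n) : Kˣ)) = _
    rw [← Units.val_mul, ← Units.val_mul, ← Units.val_mul, hμ, mul_pow, map_pow]
    congr 1
    rw [hν, inv_pow]
    generalize ω ^ n = x
    generalize σu ω ^ n = y
    simp [mul_comm, mul_left_comm]
  have hscal : ∀ n : ℕ, μ ^ n = 1 → δW ^ n = 1 := fun n hn => by
    have h1 : σu (ω ^ n) = ω ^ n := by
      rw [map_pow]
      rw [hμ, mul_pow, inv_pow, mul_inv_eq_one] at hn
      exact hn.symm
    obtain ⟨⟨a, b⟩, hab⟩ := E.surjective ((ω ^ n : Kˣ) : K)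
    have hb : b = 0 := by
      have h3 : σ (E (a, b)) = E (a, b) := by rw [hab]; exact congrArg Units.val h1
      rw [hE, map_add, map_mul, hσι, hσι, hσr] at h3
      have h4 : (2 : K) * (r * ι b) = 0 := by linear_combination -h3
      exact hι (by rw [map_zero]; exact (mul_eq_zero.mp ((mul_eq_zero.mp h4).resolve_left h2K)).resolve_left hr0)
    subst hb
    have hA : (φu (ω ^ n)).1 = a • (1 : M2) := by
      show φ ((ω ^ n : Kˣ) : K) = _
      rw [← hab, hφ, zero_smul, add_zero]
    refine Subtype.ext (Units.ext ?_)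
    rw [hδpow, hscv, hA]
    have hν1 : ((ν ^ n : Kˣ) : K) * ι a = 1 := by
      rw [hE, map_zero, mul_zero, add_zero] at hab
      rw [hab, ← Units.val_mul, hν, inv_pow, ← map_pow, h1, inv_mul_cancel, Units.val_one]
    ext i j
    fin_cases i <;> fin_cases j <;> simp
    all_goals rw [← Units.val_pow_eq_pow_val]; exact hν1
  have hdisjdet : ∀ A n, iW A = δW ^ n → μ ^ n = 1 := fun A n e => Units.ext (by
    rw [Units.val_one, ← hδdet, ← e]
    show (ιM (Matrix.SpecialLinearGroup.toGL A)).1.det = 1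
    rw [hιMdet, show (Matrix.SpecialLinearGroup.toGL A).1.det = 1 from A.2, map_one])
  have hiinj : ∀ A : SL, iW A = 1 → A = 1 := fun A e => by
    have e1 : (ιM (Matrix.SpecialLinearGroup.toGL A)).1 = 1 := congrArg (fun w : W c => w.1.1) e
    rw [hιM] at e1
    have a00 := congrFun (congrFun e1 0) 0
    have a01 := congrFun (congrFun e1 0) 1
    have a10 := congrFun (congrFun e1 1) 0
    have a11 := congrFun (congrFun e1 1) 1
    simp [hr0] at a00 a01 a10 a11
    have b00 : A.1 0 0 = 1 := hι (by rw [a00, map_one])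
    have b11 : A.1 1 1 = 1 := hι (by rw [a11, map_one])
    refine Subtype.ext ?_
    ext i j
    fin_cases i <;> fin_cases j <;> simp [*]
  exact
    { i := iW
      δ := δW
      ord := by
        show orderOf δW = q + 1
        rw [← hμo]
        refine orderOf_eq_orderOf_iff.mpr fun n => ⟨fun e => Units.ext ?_, hscal n⟩
        rw [Units.val_one, ← hδdet, e]
        exact Matrix.det_one
      disj := fun A n e => hiinj A (by rw [e, hscal n (hdisjdet A n e)])
      gen := fun w => by
        have hdw : Matrix.det w.1.1 * σ (Matrix.det w.1.1) = 1 := by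
          have h := congrArg Matrix.det (show w.1.1 * aJ K 2 * (w.1.1.map σ)ᵀ = aJ K 2 from w.2)
          rw [Matrix.det_mul, Matrix.det_mul, Matrix.det_transpose] at h
          rw [show (w.1.1.map σ).det = σ w.1.1.det from (σ.map_det _).symm] at h
          have hJ : (aJ K 2).det ≠ 0 := fun e => by
            have := congrArg Matrix.det (aJ_sq (F := K) (n := 2))
            rw [Matrix.det_mul, e, zero_mul, Matrix.det_one] at this
            exact zero_ne_one this
          exact mul_right_cancel₀ hJ (by linear_combination h)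
        obtain ⟨n, hn⟩ := (mem_powers_iff_mem_zpowers (x := μ) (y := Matrix.GeneralLinearGroup.det w.1)).mpr
          (hnorm _ hdw)
        simp only at hn
        set v := w * (δW ^ n)⁻¹ with hv
        have hvd : v.1.1.det = 1 := by
          have h1 : Matrix.GeneralLinearGroup.det (δW ^ n : W c).1 = μ ^ n := Units.ext (hδdet n)
          have := congrArg Units.val (show Matrix.GeneralLinearGroup.det v.1 = 1 by
            rw [hv, Subgroup.coe_mul, Subgroup.coe_inv, map_mul, map_inv, h1, hn, mul_inv_cancel])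
          exact this
        obtain ⟨i0, i1, i2, i3⟩ := inv_ent v
        have hadj : (v⁻¹).1.1 = v.1.1.adjugate := by
          show (v.1⁻¹).1 = _
          refine Units.inv_eq_of_mul_eq_one_right ?_
          rw [Matrix.mul_adjugate, hvd, one_smul]
        simp only [ent, hadj, Matrix.adjugate_fin_two, Matrix.of_apply, Matrix.cons_val', Matrix.cons_val_zero,
          Matrix.cons_val_one, Matrix.cons_val_fin_one, show c.σ = σ from rfl] at i0 i1 i2 i3
        have hfix : ∀ x : K, σ x = x → ∃ a, ι a = x := fun x hx => by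
          obtain ⟨⟨a, b⟩, rfl⟩ := E.surjective x
          rw [hE, map_add, map_mul, hσι, hσι, hσr] at hx
          have h4 : (2 : K) * (r * ι b) = 0 := by linear_combination -hx
          have hb := (mul_eq_zero.mp ((mul_eq_zero.mp h4).resolve_left h2K)).resolve_left hr0
          exact ⟨a, by rw [hE, hb, mul_zero, add_zero]⟩
        obtain ⟨a00, h00⟩ := hfix (v.1.1 0 0) i3.symm
        obtain ⟨a01, h01⟩ := hfix (v.1.1 0 1 * r⁻¹) (by rw [map_mul, map_inv₀, hσr, ← i1]; ring)
        obtain ⟨a10, h10⟩ := hfix (v.1.1 1 0 * r) (by rw [map_mul, hσr, ← i2]; ring)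
        obtain ⟨a11, h11⟩ := hfix (v.1.1 1 1) i0.symm
        have hA : (!![a00, a01; a10, a11] : M2).det = 1 := hι (by
          rw [Matrix.det_fin_two_of, map_sub, map_mul, map_mul, h00, h01, h10, h11, map_one,
            show v.1.1 0 1 * r⁻¹ * (v.1.1 1 0 * r) = v.1.1 0 1 * v.1.1 1 0 by field_simp,
            ← Matrix.det_fin_two, hvd])
        refine ⟨⟨_, hA⟩, n, ?_⟩
        have hiv : iW ⟨_, hA⟩ = v := Subtype.ext (Units.ext (by
          show (ιM _).1 = _
          rw [hιM]
          show !![ι a00, r * ι a01; ι a10 * r⁻¹, ι a11] = v.1.1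
          rw [h00, h01, h10, h11]
          ext i j
          fin_cases i <;> fin_cases j <;> simp <;> field_simp))
        rw [hiv, hv, inv_mul_cancel_right]
      conj := fun A => Subtype.ext (by
        show sc ν * ιM g0 * ιM (Matrix.SpecialLinearGroup.toGL A) =
          ιM (Matrix.SpecialLinearGroup.toGL (conjSL g0 A)) * (sc ν * ιM g0)
        rw [mul_assoc, ← mul_assoc (ιM (Matrix.SpecialLinearGroup.toGL _)), ← hsc ν _, mul_assoc, ← map_mul,
          ← map_mul]
        congr 2
        exact Units.ext (show g0.1 * A.1 = g0.1 * A.1 * (g0⁻¹).1 * g0.1 by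
          rw [Matrix.mul_assoc (g0.1 * A.1), Units.inv_mul, Matrix.mul_one]))
      A0 := φN ⟨μ⁻¹, inv_mem (Subgroup.mem_zpowers μ)⟩
      A0_spec := ⟨g0.1.det, by
        show φ ((μ⁻¹ : Kˣ) : K) * (g0 * g0).1 = _
        rw [Units.val_mul]
        show φ ((μ⁻¹ : Kˣ) : K) * (φ ω * φ ω) = _
        rw [← map_mul, ← map_mul, show ((μ⁻¹ : Kˣ) : K) * ((ω : K) * ω) = ι g0.1.det * 1 by
          rw [← hωσ, mul_one]
          exact congrArg Units.val hμω, hφι, map_one]⟩
      half := by
        set A0 := φN ⟨μ⁻¹, inv_mem (Subgroup.mem_zpowers μ)⟩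
        have e : (iW A0 * δW ^ 2 : W c).1 = sc μ := by
          rw [Subgroup.coe_mul, hδpow]
          show ιM (Matrix.SpecialLinearGroup.toGL A0) * (sc (ν ^ 2) * ιM (φu (ω ^ 2))) = _
          rw [← mul_assoc, ← hsc, mul_assoc, ← map_mul,
            show Matrix.SpecialLinearGroup.toGL A0 * φu (ω ^ 2) = φu (μ⁻¹ * ω ^ 2) by
              rw [map_mul]; exact congrArg (· * φu (ω ^ 2)) (Units.ext rfl)]
          refine Units.ext ?_
          rw [hscv]
          have hsq : μ⁻¹ * ω ^ 2 = ω * σu ω := by rw [pow_two]; exact hμω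
          have hA : (φu (μ⁻¹ * ω ^ 2)).1 = g0.1.det • (1 : M2) := by
            show φ ((μ⁻¹ * ω ^ 2 : Kˣ) : K) = _
            rw [hsq, show ((ω * σu ω : Kˣ) : K) = ι g0.1.det * 1 by rw [mul_one, ← hωσ]; rfl, hφι, map_one]
          rw [hA]
          have hμv : ((ν ^ 2 : Kˣ) : K) * ι g0.1.det = (μ : K) := by
            rw [show ι g0.1.det = ((ω * σu ω : Kˣ) : K) from hωσ.symm, ← Units.val_mul, hν, hμ2]
          show _ = algebraMap K (Matrix (Fin 2) (Fin 2) K) (μ : K)
          ext i j
          fin_cases i <;> fin_cases j <;> simp [Matrix.algebraMap_matrix_apply]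
          all_goals rw [← Units.val_pow_eq_pow_val]; exact hμv
        show (iW A0 * δW ^ 2) ^ ((q + 1) / 2) = iW (-1)
        refine Subtype.ext ?_
        rw [SubmonoidClass.coe_pow, e, ← map_pow]
        have hμh : μ ^ ((q + 1) / 2) = -1 := by
          have h1 : μ ^ ((q + 1) / 2) * μ ^ ((q + 1) / 2) = 1 := by
            rw [← pow_add, show (q + 1) / 2 + (q + 1) / 2 = q + 1 by omega, ← hμo, pow_orderOf_eq_one]
          have h3 := congrArg Units.val h1
          rw [Units.val_mul, Units.val_one] at h3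
          refine Units.ext ((mul_self_eq_one_iff.mp h3).resolve_left fun e1 => ?_)
          have := Nat.le_of_dvd (by omega) (hμo ▸ orderOf_dvd_of_pow_eq_one (Units.ext e1 : μ ^ ((q + 1) / 2) = 1))
          omega
        rw [hμh]
        refine Units.ext ?_
        show algebraMap K (Matrix (Fin 2) (Fin 2) K) ((-1 : Kˣ) : K) = (ιM _).1
        rw [hιM]
        ext i j
        fin_cases i <;> fin_cases j <;> simp [Matrix.algebraMap_matrix_apply]
      cen := by
        rintro A n ⟨a, ha⟩
        refine Subgroup.mem_center_iff.mpr fun w => Subtype.ext (Units.ext ?_)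
        have e : (iW A * δW ^ n : W c).1.1 = algebraMap K (Matrix (Fin 2) (Fin 2) K) (((ν ^ n : Kˣ) : K) * ι a) := by
          rw [Subgroup.coe_mul, hδpow]
          show (ιM (Matrix.SpecialLinearGroup.toGL A) * (sc (ν ^ n) * ιM (φu (ω ^ n)))).1 = _
          rw [← mul_assoc, ← hsc, mul_assoc, ← map_mul, hscv,
            show (Matrix.SpecialLinearGroup.toGL A * φu (ω ^ n)).1 = a • (1 : M2) by rw [map_pow]; exact ha]
          ext i j
          fin_cases i <;> fin_cases j <;> simp [Matrix.algebraMap_matrix_apply]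
        show w.1.1 * (iW A * δW ^ n : W c).1.1 = (iW A * δW ^ n : W c).1.1 * w.1.1
        rw [e]
        exact (Algebra.commutes _ _).symm
      invol := fun w hw ho => by
        have hu : ∀ A : SL, w.1.1 * (ιM (Matrix.SpecialLinearGroup.toGL A)).1 =
            (ιM (Matrix.SpecialLinearGroup.toGL A)).1 * w.1.1 := fun A =>
          (congrArg (fun x : W c => x.1.1) (Subgroup.mem_center_iff.mp hw (iW A))).symm
        have e1 := hu (PSL2.uSL 1)
        have e2 := hu (PSL2.vSL 1)
        rw [hιM] at e1 e2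
        have a1 := congrFun (congrFun e1 0) 0
        have a2 := congrFun (congrFun e2 0) 0
        have a3 := congrFun (congrFun e1 0) 1
        simp [PSL2.coe_uSL, PSL2.coe_vSL, Matrix.mul_apply, Fin.sum_univ_two, hr0] at a1 a2 a3
        have h11 : w.1.1 1 1 = w.1.1 0 0 := mul_left_cancel₀ hr0 (by linear_combination -a3)
        have hww : w.1.1 * w.1.1 = 1 := by
          have := congrArg (fun x : W c => x.1.1) ((pow_two w).symm.trans (orderOf_dvd_iff_pow_eq_one.mp ho.dvd))
          simpa using this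
        have h00 := congrFun (congrFun hww 0) 0
        simp [Matrix.mul_apply, Fin.sum_univ_two, a1, a2] at h00
        rcases mul_self_eq_one_iff.mp h00 with e | e
        · exfalso
          have hw1 : w = 1 := Subtype.ext (Units.ext (by
            ext i j
            fin_cases i <;> fin_cases j <;> simp [a1, a2, h11, e]))
          rw [hw1, orderOf_one] at ho
          omega
        · refine Subtype.ext (Units.ext ?_)
          show w.1.1 = (ιM _).1
          rw [hιM]
          ext i j
          fin_cases i <;> fin_cases j <;> simp [a1, a2, h11, e] }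

end CfsgLib.RankTwoModel.Shape
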