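import Cfsg.Agent.Lib.RankTwoModel.Shape.Split
import Cfsg.Agent.Lib.RankTwoModel.Shape.Nonsplit
import Cfsg.Agent.S0484
import Cfsg.Agent.S0485

/-!
**P9, the extension: a central core and no field part give a model.**

* `centralizer_shape`: the centraliser is `GL₂(q)/Z` or `GU₂(q)/Z`, `Z` central of odd order;
* `model_of_central`: so the group is a model, by S0484 and S0485.

Blueprint: `blueprint/RankTwo_P9.md`.
-/

set_option autoImplicit false
set_option linter.unusedSectionVars false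
set_option linter.style.haveILetI false

namespace CfsgLib.RankTwoModel

open Cfsg Matrix
open scoped MatrixGroups

universe u

variable {G : Type u} [Group G] [Finite G] {d : Frame G}

/-- **The shape of the centraliser.** -/
theorem centralizer_shape (h : Hyp G) (hd : d.Spec) (hq : 3 < d.q) (R : Rep d)
    (hO : ∀ o ∈ d.O, ∀ c ∈ d.C, o * c = c * o)
    (hin : ∀ c : ↥d.C, ∃ g : GL (Fin 2) d.F, ∀ A, (R.σ c A).1 = g.1 * A.1 * (g⁻¹).1) :
    (∃ Z : Subgroup (GL (Fin 2) d.F), ∃ _ : Z.Normal, Z ≤ Subgroup.center (GL (Fin 2) d.F) ∧ Odd (Nat.card Z) ∧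
        Nonempty (↥d.C ≃* GL (Fin 2) d.F ⧸ Z)) ∨
      ∃ (K : Type) (_ : Field K) (_ : Fintype K) (q : ℕ), Odd q ∧ Fintype.card K = q ^ 2 ∧
        ∃ Z : Subgroup (Cfsg.GU 2 K q), ∃ _ : Z.Normal, Z ≤ Subgroup.center (Cfsg.GU 2 K q) ∧ Odd (Nat.card Z) ∧
          Nonempty (↥d.C ≃* Cfsg.GU 2 K q ⧸ Z) := by
  classical
  obtain ⟨u, -, huo, huz, huc, -⟩ := hd.exists_u
  have huC : u ∈ d.C := Subgroup.mem_centralizer_singleton_iff.mpr huc
  obtain ⟨g, htr, hns, hg⟩ := R.invol hd hq h huC huo huz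
  have X : Shape.Ctx R u g := ⟨h, hd, hq, hO, hin, huC, huo, huz, hg, htr, hns⟩
  by_cases hsq : IsSquare (-g.1.det)
  · obtain ⟨T, ⟨M⟩⟩ := Shape.exists_split_model X.two htr hsq
    obtain ⟨D⟩ := X.exists_data T
    exact Or.inl (Shape.exists_quotient M hd D (T.even_N X.two))
  · obtain ⟨K, fK, ftK, c, hcq, T, ⟨M⟩⟩ := Shape.exists_nonsplit_model X.two htr hns hsq
    obtain ⟨D⟩ := X.exists_data T
    obtain ⟨Z, hZn, hZc, hZo, ⟨e⟩⟩ := Shape.exists_quotient M hd D (T.even_N X.two)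
    obtain ⟨f⟩ := CfsgLib.U3Cent.exists_equiv c
    haveI := hZn
    haveI : (Z.map f.toMonoidHom).Normal := hZn.map _ f.surjective
    refine Or.inr ⟨K, fK, ftK, c.q, hcq ▸ hd.odd_card, c.card, Z.map f.toMonoidHom,
      inferInstance, ?_, ?_, ⟨e.trans (QuotientGroup.congr Z _ f rfl)⟩⟩
    · rintro _ ⟨z, hz, rfl⟩
      refine Subgroup.mem_center_iff.mpr fun w => ?_
      obtain ⟨v, rfl⟩ := f.surjective w
      show f v * f z = f z * f v
      rw [← map_mul, ← map_mul, Subgroup.mem_center_iff.mp (hZc hz) v]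
    · rwa [Subgroup.card_map_of_injective f.injective]

/-- **A central core and no field part give a model.** -/
theorem model_of_central (h : Hyp G) (hd : d.Spec) (hq : 3 < d.q) (R : Rep d)
    (hO : ∀ o ∈ d.O, ∀ c ∈ d.C, o * c = c * o)
    (hin : ∀ c : ↥d.C, ∃ g : GL (Fin 2) d.F, ∀ A, (R.σ c A).1 = g.1 * A.1 * (g⁻¹).1) : Model G := by
  haveI := h.simple
  rcases centralizer_shape h hd hq R hO hin with ⟨Z, hZn, hZc, hZo, hC⟩ | ⟨K, fK, ftK, q, hqo, hcard, Z, hZn, hZc, hZo, hC⟩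
  · haveI := hZn
    rcases Cfsg.Agent.S0484.result hd.odd_card Z hZc hZo d.z hd.zord hC with e | e
    · exact Or.inl ⟨d.F, inferInstance, inferInstance, hd.odd_card, e⟩
    · exact Or.inr (Or.inr e)
  · haveI := hZn
    exact Or.inr (Or.inl ⟨K, fK, ftK, q, hcard, hqo,
      Cfsg.Agent.S0485.result q hqo hcard Z hZc hZo d.z hd.zord hC⟩)

end CfsgLib.RankTwoModel
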