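import Cfsg.Agent.Lib.RankTwoModel.Shape.Torus

/-!
The centraliser as a product `j(SL₂(q)) ⟨t⟩ ⟨κ⟩`.

* `Data`: the product with its relations;
* `exists_data`: it exists for a central core without field part; in particular `D ∩ O = 1`.

Blueprint: `blueprint/RankTwo_P9.md` (central extension).
-/

set_option autoImplicit false
set_option linter.unusedSectionVars false
set_option linter.style.haveILetI false

namespace CfsgLib.RankTwoModel.Shape

open Cfsg Matrix
open scoped MatrixGroups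

universe u

variable {G : Type u} [Group G] [Finite G] {d : Frame G} {R : Rep d} {u : G} {g : GL (Fin 2) d.F}

local notation "SL[" d "]" => Matrix.SpecialLinearGroup (Fin 2) (Frame.F d)

/-- The product decomposition. -/
structure Data (d : Frame G) (g0 : GL (Fin 2) d.F) (N : ℕ) where
  j : SL[d] →* G
  t : G
  κ : G
  jC : ∀ A, j A ∈ d.C
  jz : j (-1) = d.z
  tC : t ∈ d.C
  κC : κ ∈ d.C
  tN : t ^ N = 1
  κN : κ ^ N = 1
  κc : ∀ c ∈ d.C, κ * c = c * κ
  tconj : ∀ A B : SL[d], B.1 = g0.1 * A.1 * (g0⁻¹).1 → t * j A = j B * t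
  span : ∀ c ∈ d.C, ∃ (A : SL[d]) (i m : ℕ), c = j A * t ^ i * κ ^ m
  scal : ∀ A : SL[d], (∃ a : d.F, A.1 * (g0 * g0).1 = a • (1 : Matrix (Fin 2) (Fin 2) d.F)) →
    ∃ m : ℕ, j A * t ^ 2 = κ ^ m
  kerj : ∀ (A : SL[d]) (i m : ℕ), j A * t ^ i * κ ^ m = 1 →
    ∃ a : d.F, A.1 * (g0 ^ i).1 = a • (1 : Matrix (Fin 2) (Fin 2) d.F)

/-- **The decomposition exists.** -/
theorem Ctx.exists_data (X : Ctx R u g) (T : Tor g) : Nonempty (Data d T.g0 T.N) := by
  classical
  haveI : Fact (Nat.Prime 2) := ⟨Nat.prime_two⟩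
  set γ := eta T.g0 with hγ
  have h2 := X.two
  -- the swap
  have hcm : u * d.z = d.z * u := Frame.Spec.z_central X.uC
  have hto : orderOf (u * d.z) = 2 := BG.orderOf_mul_invol X.uo X.spec.zord hcm X.uz.symm
  have hzne : d.z ≠ u * d.z := fun e => by
    have h1 : u = 1 := right_eq_mul.mp e |>.trans rfl
    exact absurd X.uo (by rw [h1, orderOf_one]; norm_num)
  obtain ⟨s, hs, hsz⟩ := X.hyp.swap hto X.spec.zord (by rw [mul_assoc, ← mul_assoc d.z, ← hcm, mul_assoc]) hzne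
  rw [mul_assoc u, X.zz, mul_one] at hsz
  have hsu : s * u * s⁻¹ = d.z := by
    have hsuz : s * (u * d.z) * s⁻¹ = u * d.z :=
      mul_inv_eq_iff_eq_mul.mpr (Subgroup.mem_centralizer_singleton_iff.mp hs)
    calc s * u * s⁻¹ = (s * (u * d.z) * s⁻¹) * (s * d.z * s⁻¹)⁻¹ := by group
      _ = u * d.z * u⁻¹ := by rw [hsuz, hsz]
      _ = d.z := by rw [hcm, mul_inv_cancel_right]
  -- the centraliser of the four group
  set CU := d.C ⊓ Subgroup.centralizer ({u} : Set G) with hCU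
  have hcu : ∀ x ∈ CU, x * u = u * x := fun x hx => Subgroup.mem_centralizer_singleton_iff.mp hx.2
  have hsCU : ∀ x ∈ CU, s * x * s⁻¹ ∈ CU := fun x hx => by
    refine ⟨Subgroup.mem_centralizer_singleton_iff.mpr ?_, Subgroup.mem_centralizer_singleton_iff.mpr ?_⟩
    · rw [← hsu]; exact ((Commute.conj_iff s).2 (hcu x hx)).eq
    · rw [← hsz]; exact ((Commute.conj_iff s).2 (Frame.Spec.z_central hx.1)).eq
  let τ : ↥CU →* SL[d] := MonoidHom.mk' (fun x => X.tau ⟨x, x.2.1⟩) fun x y =>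
    X.tau_mul x.2.1 (hcu x x.2) y.2.1 (hcu y y.2)
  have hτ : ∀ x : ↥CU, τ x ∈ Subgroup.zpowers γ := fun x => T.gen _ (X.tau_comm x.2.1 (hcu x x.2))
  let τs : ↥CU →* SL[d] := τ.comp (MonoidHom.mk' (fun x : ↥CU => (⟨s * x * s⁻¹, hsCU x x.2⟩ : ↥CU))
    fun x y => Subtype.ext (by show s * ((x : G) * y) * s⁻¹ = s * x * s⁻¹ * (s * y * s⁻¹); group))
  -- the elements acting trivially
  set Z := R.σ.ker.map d.C.subtype with hZ
  have hZmem : ∀ x, x ∈ Z ↔ ∃ hx : x ∈ d.C, R.σ ⟨x, hx⟩ = 1 := fun x =>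
    ⟨fun ⟨y, hy, e⟩ => e ▸ ⟨y.2, hy⟩, fun ⟨hx, e⟩ => ⟨⟨x, hx⟩, e, rfl⟩⟩
  have hZC : ∀ x ∈ Z, ∀ c ∈ d.C, x * c = c * x := fun x hx => by
    obtain ⟨hxC, e⟩ := (hZmem x).mp hx
    exact X.ker_central hxC e
  have hZCU : Z ≤ CU := fun x hx =>
    ⟨((hZmem x).mp hx).1, Subgroup.mem_centralizer_singleton_iff.mpr (hZC x hx u X.uC)⟩
  have hZinj : ∀ x ∈ Z, s * x * s⁻¹ ∈ Z → x = 1 := fun x hx hx' => by
    obtain ⟨hxC, e⟩ := (hZmem _).mp hx'
    have h1 := X.eq_one_of_pair hsz hxC e fun c hc => ((Commute.conj_iff s).2 (hZC x hx c hc)).eq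
    exact conj_eq_one_iff.mp h1
  have hτs1 : ∀ x : ↥CU, τs x = 1 → s * (x : G) * s⁻¹ ∈ Z := fun x e =>
    (hZmem _).mpr ⟨(hsCU x x.2).1, X.sigma_eq_one_of_tau _ e⟩
  let f : ↥Z →* ↥(Subgroup.zpowers γ) := (τs.comp (Subgroup.inclusion hZCU)).codRestrict _ fun x => hτ _
  have hf : Function.Injective f := (injective_iff_map_eq_one f).mpr fun x e =>
    Subtype.ext (hZinj x x.2 (hτs1 ⟨x, hZCU x.2⟩ (congrArg Subtype.val e)))
  haveI : IsCyclic ↥Z := isCyclic_of_injective f hf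
  have hZN : Nat.card Z ∣ T.N := by
    rw [← T.ord, ← hγ, ← Nat.card_zpowers]
    exact Subgroup.card_dvd_of_injective f hf
  have hZpow : ∀ x ∈ Z, x ^ T.N = 1 := fun x hx => by
    obtain ⟨k, hk⟩ := hZN
    rw [hk, pow_mul, show x ^ Nat.card Z = 1 from congrArg Subtype.val (pow_card_eq_one' (x := (⟨x, hx⟩ : Z))),
      one_pow]
  -- `D` meets the core trivially
  let πD : ↥d.D →* SL[d] := R.π.comp (Subgroup.inclusion (X.spec.D_le_L X.hq))
  have hπD : Function.Surjective πD := fun A => by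
    obtain ⟨y, hy, e⟩ := R.surj_D X.spec X.hq A
    exact ⟨⟨y, hy⟩, e⟩
  have hπker : ∀ y : ↥d.D, πD y = 1 ↔ (y : G) ∈ d.O := fun y => R.ker _
  have hπinj : Function.Injective πD := by
    rw [injective_iff_map_eq_one]
    intro x hx
    haveI := d.D_perfect
    set P := (Subgroup.zpowers γ).comap πD
    have hkerP : (πD.subgroupComap (Subgroup.zpowers γ)).ker ≤ Subgroup.center P := fun p hp => by
      refine Subgroup.mem_center_iff.mpr fun q => Subtype.ext (Subtype.ext ?_)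
      exact (X.central _ ((hπker _).mp (congrArg Subtype.val hp)) _ (d.D_le (q : ↥d.D).2)).symm
    letI : CommGroup P :=
      { (inferInstance : Group P) with
        mul_comm := (MonoidHom.isMulCommutative_of_isCyclic_of_ker_le_center _ hkerP).is_comm.comm }
    have hxc : ∀ y : ↥d.D, Commute x y := fun y =>
      Subtype.ext (X.central _ ((hπker x).mp hx) _ (d.D_le y.2))
    have htr : MonoidHom.transfer (MonoidHom.id P) x = 1 :=
      Abelianization.commutator_subset_ker _ (by rw [Group.IsPerfect.commutator_eq_top]; exact Subgroup.mem_top x)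
    have hkey : ∀ (k : ℕ) (g₀ : ↥d.D), g₀⁻¹ * x ^ k * g₀ ∈ P → g₀⁻¹ * x ^ k * g₀ = x ^ k := fun k g₀ _ => by
      rw [mul_assoc, ((hxc g₀).pow_left k).eq, inv_mul_cancel_left]
    rw [MonoidHom.transfer_eq_pow _ _ hkey] at htr
    have hM : x ^ P.index = 1 := congrArg Subtype.val htr
    have hxZ : (x : G) ∈ Z := (hZmem _).mpr ⟨d.D_le x.2, R.sigma_O ((hπker x).mp hx)⟩
    have hxN : orderOf x ∣ T.N := orderOf_dvd_of_pow_eq_one (Subtype.ext (hZpow _ hxZ))
    have hodd : Odd (orderOf x) := by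
      rw [← Subgroup.orderOf_coe]
      exact d.O_odd.of_dvd_nat (Subgroup.orderOf_dvd_natCard _ ((hπker x).mp hx))
    refine orderOf_eq_one_iff.mp (T.cop _ P.index ?_ hodd hxN (orderOf_dvd_of_pow_eq_one hM))
    rw [Subgroup.index_comap_of_surjective _ hπD, ← T.ord, ← hγ, ← Nat.card_zpowers, Subgroup.card_mul_index]
  let e : ↥d.D ≃* SL[d] := MulEquiv.ofBijective πD ⟨hπinj, hπD⟩
  let j : SL[d] →* G := d.D.subtype.comp e.symm.toMonoidHom
  have hjD : ∀ A, j A ∈ d.D := fun A => (e.symm A).2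
  have hjC : ∀ A, j A ∈ d.C := fun A => d.D_le (hjD A)
  have hπj : ∀ A, R.π ⟨j A, X.spec.D_le_L X.hq (hjD A)⟩ = A := fun A => e.apply_symm_apply A
  have hjuniq : ∀ (y : G) (hy : y ∈ d.D), y = j (R.π ⟨y, X.spec.D_le_L X.hq hy⟩) := fun y hy =>
    congrArg Subtype.val (e.symm_apply_apply ⟨y, hy⟩).symm
  have hσj : ∀ A, ConjBy (R.σ ⟨j A, hjC A⟩) (Matrix.SpecialLinearGroup.toGL A) := fun A => by
    have := conjBy_D (R := R) (X.spec.D_le_L X.hq (hjD A))
    rwa [hπj] at this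
  have hjz : j (-1) = d.z := by
    rw [← Rep.pi_z R X.spec]
    exact (hjuniq d.z (X.spec.z_mem_D X.hq)).symm
  have hconjj : ∀ (c : G) (hc : c ∈ d.C) (A : SL[d]), c * j A * c⁻¹ = j (R.σ ⟨c, hc⟩ A) := fun c hc A => by
    rw [hjuniq _ (d.D_conj hc (hjD A))]
    refine congrArg j ?_
    have h1 := R.compat ⟨c, hc⟩ ⟨j A, X.spec.D_le_L X.hq (hjD A)⟩
    rw [hπj] at h1
    exact h1.symm
  -- the torus of `D`
  have hjT : ∀ A ∈ Subgroup.zpowers γ, j A ∈ CU := fun A hA => by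
    obtain ⟨i, rfl⟩ := hA
    exact ⟨hjC _, Subgroup.mem_centralizer_singleton_iff.mpr
      (X.comm_lift (X.spec.D_le_L X.hq (hjD _)) (by rw [hπj]; exact T.pow_comm i))⟩
  let jT : ↥(Subgroup.zpowers γ) →* ↥CU := (j.comp (Subgroup.zpowers γ).subtype).codRestrict CU fun A => hjT A A.2
  let φ : ↥(Subgroup.zpowers γ) →* ↥(Subgroup.zpowers γ) := (τs.comp jT).codRestrict _ fun A => hτ _
  have hφ : Function.Injective φ := by
    rw [injective_iff_map_eq_one]
    intro A hA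
    have hx := hτs1 _ (congrArg Subtype.val hA)
    set x := j (A : SL[d]) with hxdef
    change s * x * s⁻¹ ∈ Z at hx
    -- an element of `D` inverting the torus
    obtain ⟨k, hk⟩ := GW.Model.exists_anti_mat X.two X.trace
    have hk2 : IsSquare k.1.det ∨ IsSquare (k * g).1.det ∨ IsSquare (k * T.g0).1.det := by
      by_cases h1 : IsSquare k.1.det
      · exact Or.inl h1
      · refine Or.inr (Or.inr ?_)
        rw [Units.val_mul, Matrix.det_mul]
        exact Ctx.isSquare_mul X.two h1 T.nsq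
    obtain ⟨h, hanti, hsq⟩ : ∃ h : GL (Fin 2) d.F, g.1 * h.1 = -(h.1 * g.1) ∧ IsSquare h.1.det := by
      have e0 : g.1 * k.1 = -(k.1 * g.1) := by rw [hk, neg_neg]
      rcases hk2 with h1 | h1 | h1
      · exact ⟨k, e0, h1⟩
      · exact ⟨k * g, by rw [Units.val_mul, ← Matrix.mul_assoc, e0, Matrix.neg_mul], h1⟩
      · exact ⟨k * T.g0, by
          rw [Units.val_mul, ← Matrix.mul_assoc, e0, Matrix.neg_mul, Matrix.mul_assoc, Matrix.mul_assoc,
            T.comm.eq], h1⟩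
    obtain ⟨r, hr⟩ := hsq
    have hr0 : r ≠ 0 := fun e0 => GW.Model.det_ne h (by rw [hr, e0, mul_zero])
    set W : SL[d] := ⟨r⁻¹ • h.1, by rw [Matrix.det_smul, Fintype.card_fin, hr]; field_simp⟩ with hW
    have hWg : g.1 * W.1 = -(W.1 * g.1) := by
      show g.1 * (r⁻¹ • h.1) = -(r⁻¹ • h.1 * g.1)
      rw [Matrix.mul_smul, hanti, Matrix.smul_mul, smul_neg]
    set w := j W with hw
    have hwu : w * u * w⁻¹ = d.z * u := by
      have hσW : R.σ ⟨u, X.uC⟩ W = -1 * W := Subtype.ext (by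
        rw [X.conj_u, hWg, Matrix.neg_mul, Matrix.mul_assoc, Units.mul_inv, Matrix.mul_one, neg_one_mul]
        rfl)
      have h1 := hconjj u X.uC W
      rw [hσW, map_mul, hjz, ← hw] at h1
      calc w * u * w⁻¹ = w * (u * w * u⁻¹)⁻¹ * u := by group
        _ = d.z⁻¹ * u := by
          rw [h1, _root_.mul_inv_rev, mul_inv_cancel_left]
        _ = d.z * u := by rw [inv_eq_of_mul_eq_one_right X.zz]
    have hwx : w * x * w⁻¹ = x⁻¹ := by
      rw [hw, hxdef, ← map_inv j W, ← map_mul, ← map_mul, ← map_inv]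
      refine congrArg j ?_
      obtain ⟨i, hi⟩ := A.2
      have hc : Commute (A : SL[d]).1 g.1 := by rw [← hi]; exact T.pow_comm i
      obtain ⟨a, b, e1⟩ := SL2Centralizer.exists_of_commute X.nscalar hc
      refine eq_inv_of_mul_eq_one_left (Subtype.ext ?_)
      rw [Matrix.SpecialLinearGroup.coe_mul, Matrix.SpecialLinearGroup.coe_mul,
        Matrix.SpecialLinearGroup.coe_mul, Matrix.SpecialLinearGroup.coe_one, e1]
      have hWW : W.1 * W⁻¹.1 = 1 := by
        rw [← Matrix.SpecialLinearGroup.coe_mul, mul_inv_cancel, Matrix.SpecialLinearGroup.coe_one]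
      have hWgW : W.1 * g.1 * W⁻¹.1 = -g.1 := by
        rw [show W.1 * g.1 = -(g.1 * W.1) by rw [hWg, neg_neg], Matrix.neg_mul, Matrix.mul_assoc, hWW,
          Matrix.mul_one]
      rw [show W.1 * (a • (1 : Matrix (Fin 2) (Fin 2) d.F) + b • g.1) * W⁻¹.1 = a • 1 + b • -g.1 by
        simp only [Matrix.mul_add, Matrix.add_mul, Matrix.mul_smul, Matrix.smul_mul, Matrix.mul_one]
        rw [hWW, hWgW]]
      have hdet := (A : SL[d]).2
      rw [e1] at hdet
      have ht := X.trace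
      rw [Matrix.trace_fin_two] at ht
      rw [Matrix.det_fin_two] at hdet
      simp only [Matrix.add_apply, Matrix.smul_apply, Matrix.one_apply_eq, Matrix.one_apply_ne,
        ne_eq, zero_ne_one, one_ne_zero, not_false_eq_true, smul_eq_mul, mul_one, mul_zero, zero_add] at hdet
      ext p q
      fin_cases p <;> fin_cases q <;> simp [Matrix.mul_apply, Fin.sum_univ_two]
      · linear_combination hdet - (b ^ 2 * g.1 0 0 + a * b) * ht
      · linear_combination -(b ^ 2 * g.1 0 1) * ht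
      · linear_combination -(b ^ 2 * g.1 1 0) * ht
      · linear_combination hdet - (b ^ 2 * g.1 1 1 + a * b) * ht
    -- `x` centralises the centralisers of `u` and `zu`, so `s`
    have hxu : ∀ y, Commute y u → Commute x y := by
      intro y hy
      have hyC : s * y * s⁻¹ ∈ d.C := Subgroup.mem_centralizer_singleton_iff.mpr (by
        rw [← hsu]; exact ((Commute.conj_iff s).2 hy).eq)
      exact (Commute.conj_iff s).1 (hZC _ hx _ hyC)
    have hxzu : ∀ y, Commute y (d.z * u) → Commute x y := by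
      intro y hy
      have h1 : Commute (w⁻¹ * y * w) u := by
        have h0 := (Commute.conj_iff w⁻¹).2 hy
        rwa [inv_inv, ← hwu, show w⁻¹ * (w * u * w⁻¹) * w = u by group] at h0
      have h3 := (Commute.conj_iff w).2 (hxu _ h1)
      rw [hwx, show w * (w⁻¹ * y * w) * w⁻¹ = y by group] at h3
      exact Commute.inv_left_iff.mp h3
    have hxs : Commute x s := hxzu s (by
      show s * (d.z * u) = d.z * u * s
      rw [← hcm]; exact Subgroup.mem_centralizer_singleton_iff.mp hs)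
    rw [show s * x * s⁻¹ = x by rw [← hxs.eq, mul_inv_cancel_right]] at hx
    obtain ⟨hxC, e1⟩ := (hZmem _).mp hx
    have hx1 : x = 1 := X.eq_one_of_pair hsz hxC e1 fun c hc => by
      have : s * x * s⁻¹ = x := by rw [← hxs.eq, mul_inv_cancel_right]
      rw [← this]
      exact ((Commute.conj_iff s).2 (hZC x hx c hc)).eq
    refine Subtype.ext ?_
    have h5 := congrArg (fun y : ↥d.D => πD y) (Subtype.ext hx1 : (⟨x, hjD _⟩ : ↥d.D) = 1)
    simp only [map_one] at h5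
    exact (hπj _).symm.trans h5
  obtain ⟨A₀, hA₀⟩ := (Finite.injective_iff_surjective.mp hφ) ⟨γ, Subgroup.mem_zpowers γ⟩
  set t := s * j (A₀ : SL[d]) * s⁻¹ with ht
  have htCU : t ∈ CU := hsCU _ (hjT _ A₀.2)
  have htN : t ^ T.N = 1 := by
    have h1 : A₀ ^ T.N = 1 := by
      refine orderOf_dvd_iff_pow_eq_one.mp ((orderOf_dvd_natCard A₀).trans (dvd_of_eq ?_))
      rw [Nat.card_zpowers, hγ, T.ord]
    rw [ht, conj_pow, ← map_pow, ← SubmonoidClass.coe_pow, h1, OneMemClass.coe_one, map_one, mul_one,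
      mul_inv_cancel]
  have htσ : ConjBy (R.σ ⟨t, htCU.1⟩) T.g0 := by
    obtain ⟨h, hh⟩ := X.inner ⟨t, htCU.1⟩
    have h1 : eta h = γ := (X.tau_eq hh).symm.trans (congrArg Subtype.val hA₀)
    have hc := X.comm_of_cu htCU.1 (hcu t htCU) hh
    obtain ⟨a, b, e1⟩ := SL2Centralizer.exists_of_commute X.nscalar hc
    have hcg : Commute h.1 T.g0.1 := by
      rw [e1]; exact ((Commute.one_left _).smul_left a).add_left (T.comm.symm.smul_left b)
    have hcg' : Commute h.1 (T.g0⁻¹).1 := hcg.units_inv_right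
    have h3 : eta (h * T.g0⁻¹) = 1 := by
      rw [eta_mul hcg', h1, hγ, ← eta_mul (show Commute T.g0.1 (T.g0⁻¹).1 from (Commute.refl _).units_inv_right),
        mul_inv_cancel, eta_one]
    obtain ⟨c, hc0, hc1⟩ := scalar_of_eta X.two h3
    refine hh.smul (inv_ne_zero hc0) ?_
    have h4 := congrArg (fun M => c⁻¹ • (M * T.g0.1)) hc1
    simp only [Units.val_mul, Matrix.mul_assoc, Units.inv_mul, Matrix.mul_one, Matrix.smul_mul, Matrix.one_mul,
      smul_smul, inv_mul_cancel₀ hc0, one_smul] at h4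
    exact h4.symm
  obtain ⟨κ, hκ⟩ := IsCyclic.exists_generator (α := ↥Z)
  have hκpow : ∀ x ∈ Z, ∃ m : ℕ, x = (κ : G) ^ m := fun x hx => by
    obtain ⟨m, hm⟩ := (mem_powers_iff_mem_zpowers (x := κ) (y := (⟨x, hx⟩ : Z))).mpr (hκ _)
    exact ⟨m, (congrArg Subtype.val hm).symm⟩
  refine ⟨⟨j, t, κ, hjC, hjz, htCU.1, ((hZmem _).mp κ.2).1, htN, hZpow _ κ.2, hZC _ κ.2, ?_, ?_, ?_, ?_⟩⟩
  · intro A B hB
    have h1 := hconjj t htCU.1 A
    rw [show R.σ ⟨t, htCU.1⟩ A = B from Subtype.ext ((htσ A).trans hB.symm)] at h1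
    exact mul_inv_eq_iff_eq_mul.mp h1
  · intro c hc
    obtain ⟨h, hh⟩ := X.inner ⟨c, hc⟩
    have hfin : ∀ (c : G) (hc : c ∈ d.C) (h : GL (Fin 2) d.F), ConjBy (R.σ ⟨c, hc⟩) h → IsSquare h.1.det →
        ∃ (A : SL[d]) (m : ℕ), c = j A * (κ : G) ^ m := by
      intro c hc h hh hsq
      obtain ⟨y, hy, r, -, -, hk⟩ := X.exists_split hc hh hsq
      have hkC : y⁻¹ * c ∈ d.C := mul_mem (inv_mem (d.D_le hy)) hc
      obtain ⟨m, hm⟩ := hκpow _ ((hZmem _).mpr ⟨hkC, hk hkC⟩)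
      exact ⟨_, m, by rw [← hjuniq y hy, ← hm, mul_inv_cancel_left]⟩
    by_cases hsq : IsSquare h.1.det
    · obtain ⟨A, m, e1⟩ := hfin c hc h hh hsq
      exact ⟨A, 0, m, by rw [pow_zero, mul_one]; exact e1⟩
    · obtain ⟨A, m, e1⟩ := hfin (c * t⁻¹) (mul_mem hc (inv_mem htCU.1)) (h * T.g0⁻¹) (by
        rw [show (⟨c * t⁻¹, mul_mem hc (inv_mem htCU.1)⟩ : ↥d.C) = ⟨c, hc⟩ * ⟨t, htCU.1⟩⁻¹ from rfl, map_mul,
          map_inv]
        exact hh.mul htσ.inv) (by
        rw [Units.val_mul, Matrix.det_mul, Matrix.coe_units_inv, Matrix.det_nonsing_inv, Ring.inverse_eq_inv']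
        exact Ctx.isSquare_mul X.two hsq fun h' => T.nsq (by simpa using h'.inv))
      refine ⟨A, 1, m, ?_⟩
      rw [pow_one, mul_assoc, ← ((show Commute (κ : G) t from hZC _ κ.2 t htCU.1).pow_left m).eq, ← mul_assoc,
        ← e1, inv_mul_cancel_right]
  · rintro A ⟨a, ha⟩
    have hmem : j A * t ^ 2 ∈ d.C := mul_mem (hjC A) (pow_mem htCU.1 2)
    refine hκpow _ ((hZmem _).mpr ⟨hmem, ?_⟩)
    have h1 : ConjBy (R.σ ⟨j A * t ^ 2, hmem⟩) (Matrix.SpecialLinearGroup.toGL A * (T.g0 * T.g0)) := by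
      rw [show (⟨j A * t ^ 2, hmem⟩ : ↥d.C) = ⟨j A, hjC A⟩ * (⟨t, htCU.1⟩ * ⟨t, htCU.1⟩) from
        Subtype.ext (by simp [pow_two]), map_mul, map_mul]
      exact (hσj A).mul (htσ.mul htσ)
    have ha' : (Matrix.SpecialLinearGroup.toGL A * (T.g0 * T.g0)).1 = a • (1 : Matrix (Fin 2) (Fin 2) d.F) := ha
    have ha0 : a ≠ 0 := fun e0 => GW.Model.det_ne (Matrix.SpecialLinearGroup.toGL A * (T.g0 * T.g0))
      (by rw [ha', e0, zero_smul, Matrix.det_zero])
    exact MulEquiv.ext fun B => Subtype.ext ((h1 B).trans ((conjBy_one.smul ha0 ha') B).symm)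
  · intro A i m e1
    have hκC := ((hZmem _).mp κ.2).1
    have h1 : R.σ ⟨j A, hjC A⟩ * R.σ ⟨t, htCU.1⟩ ^ i = 1 := by
      have h2' : R.σ ⟨κ, hκC⟩ = 1 := ((hZmem _).mp κ.2).2
      have h3 := congrArg R.σ (show (⟨j A, hjC A⟩ : ↥d.C) * ⟨t, htCU.1⟩ ^ i * ⟨κ, hκC⟩ ^ m = 1 from
        Subtype.ext (by simpa using e1))
      rwa [map_mul, map_mul, map_pow, map_pow, h2', one_pow, mul_one, map_one] at h3
    have hi : ∀ n : ℕ, ConjBy (R.σ ⟨t, htCU.1⟩ ^ n) (T.g0 ^ n) := fun n => by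
      induction n with
      | zero => simpa using conjBy_one
      | succ n ih => rw [pow_succ, pow_succ]; exact ih.mul htσ
    have h4 := (hσj A).mul (hi i)
    rw [h1] at h4
    obtain ⟨a, -, e2⟩ := conjBy_one.unique h4
    exact ⟨a, by simpa using e2⟩

end CfsgLib.RankTwoModel.Shape
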