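import Mathlib.GroupTheory.OrderOfElement
import Mathlib.Algebra.Group.Subgroup.Basic

/-!
A map out of a group factorised as a normal subgroup times a cyclic complement.

* `Shape.exists_hom`: it exists as soon as the conjugation relation and the order relation hold.
-/

set_option autoImplicit false

namespace CfsgLib.RankTwoModel.Shape

variable {S W H : Type*} [Group S] [Group W] [Group H]

theorem pow_mul_map {i : S →* W} {δ : W} {φ : S → S} (hc : ∀ A, δ * i A = i (φ A) * δ) (n : ℕ) (A : S) :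
    δ ^ n * i A = i (φ^[n] A) * δ ^ n := by
  induction n generalizing A with
  | zero => simp
  | succ n ih =>
    rw [pow_succ, mul_assoc, hc, ← mul_assoc, ih, Function.iterate_succ_apply, mul_assoc]

/-- **The map out of a split group.** -/
theorem exists_hom (i : S →* W) (δ : W) (hδ : 0 < orderOf δ)
    (hdisj : ∀ A n, i A = δ ^ n → A = 1) (hgen : ∀ w, ∃ A, ∃ n : ℕ, w = i A * δ ^ n)
    (φ : S → S) (hW : ∀ A, δ * i A = i (φ A) * δ) (j : S →* H) (t : H) (ht : t ^ orderOf δ = 1)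
    (hH : ∀ A, t * j A = j (φ A) * t) : ∃ ψ : W →* H, ∀ A, ∀ n : ℕ, ψ (i A * δ ^ n) = j A * t ^ n := by
  choose A n hAn using hgen
  have key : ∀ (B B' : S) (m m' : ℕ), i B * δ ^ m = i B' * δ ^ m' → j B * t ^ m = j B' * t ^ m' := by
    intro B B' m m' e
    obtain ⟨l, hl⟩ : ∃ l, δ ^ m' * (δ ^ m)⁻¹ = δ ^ l := by
      refine ⟨m' + (orderOf δ - 1) * m, ?_⟩
      rw [pow_add, mul_right_inj]
      refine inv_eq_of_mul_eq_one_right ?_
      rw [← pow_add, show m + (orderOf δ - 1) * m = orderOf δ * m by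
        obtain ⟨k, hk⟩ : ∃ k, orderOf δ = k + 1 := ⟨orderOf δ - 1, by omega⟩
        rw [hk, Nat.add_sub_cancel, Nat.add_mul, Nat.one_mul, Nat.add_comm], pow_mul, pow_orderOf_eq_one, one_pow]
    have h1 : i (B'⁻¹ * B) = δ ^ l := by
      rw [← hl, map_mul, map_inv, eq_mul_inv_iff_mul_eq, mul_assoc, e, inv_mul_cancel_left]
    have hB : B' = B := inv_mul_eq_one.mp (hdisj _ _ h1)
    subst hB
    have hm : δ ^ m = δ ^ m' := mul_left_cancel e
    rw [pow_eq_pow_of_modEq (pow_eq_pow_iff_modEq.mp hm) ht]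
  refine ⟨MonoidHom.mk' (fun w => j (A w) * t ^ n w) fun w w' => ?_, fun B m => key _ _ _ _ (hAn _).symm⟩
  have e : i (A (w * w')) * δ ^ n (w * w') = i (A w * φ^[n w] (A w')) * δ ^ (n w + n w') := by
    rw [← hAn, map_mul, mul_assoc, pow_add, ← mul_assoc (i (φ^[n w] _)), ← pow_mul_map hW, mul_assoc,
      ← mul_assoc, ← hAn, ← hAn]
  rw [key _ _ _ _ e, map_mul, mul_assoc, pow_add, ← mul_assoc (j (φ^[n w] _)), ← pow_mul_map hH, mul_assoc,
    ← mul_assoc]

end CfsgLib.RankTwoModel.Shape
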