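import Cfsg.Agent.Lib.RankTwoModel.Shape.Hom
import Cfsg.Agent.Lib.RankTwoModel.Shape.Data

/-!
A decomposed centraliser is a quotient of the model group by an odd central subgroup.

* `Model2`: a group `SL₂(q)` extended by a cyclic complement acting as `g0`, with its scalars;
* `exists_quotient`: the centraliser is its quotient by a central subgroup of odd order.

Blueprint: `blueprint/RankTwo_P9.md` (central extension).
-/

set_option autoImplicit false
set_option linter.unusedSectionVars false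
set_option linter.style.haveILetI false

namespace CfsgLib.RankTwoModel.Shape

open Cfsg Matrix CfsgLib.PSL2
open scoped MatrixGroups

universe u

variable {G : Type u} [Group G] [Finite G] {d : Frame G} {g0 : GL (Fin 2) d.F} {N : ℕ}

local notation "SL[" d "]" => Matrix.SpecialLinearGroup (Fin 2) (Frame.F d)

/-- The model group. -/
structure Model2 {F : Type} [Field F] [Fintype F] (W : Type) [Group W] (g0 : GL (Fin 2) F) (N : ℕ) where
  i : Matrix.SpecialLinearGroup (Fin 2) F →* W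
  δ : W
  ord : orderOf δ = N
  disj : ∀ A n, i A = δ ^ n → A = 1
  gen : ∀ w, ∃ A, ∃ n : ℕ, w = i A * δ ^ n
  conj : ∀ A, δ * i A = i (conjSL g0 A) * δ
  A0 : Matrix.SpecialLinearGroup (Fin 2) F
  A0_spec : ∃ a : F, A0.1 * (g0 * g0).1 = a • (1 : Matrix (Fin 2) (Fin 2) F)
  half : (i A0 * δ ^ 2) ^ (N / 2) = i (-1)
  cen : ∀ A n, (∃ a : F, A.1 * (g0 ^ n).1 = a • (1 : Matrix (Fin 2) (Fin 2) F)) →
    i A * δ ^ n ∈ Subgroup.center W
  invol : ∀ w ∈ Subgroup.center W, orderOf w = 2 → w = i (-1)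

/-- **The centraliser is a quotient of the model.** -/
theorem exists_quotient {W : Type} [Group W] [Finite W] (M : Model2 W g0 N) (hd : d.Spec) (D : Data d g0 N)
    (hN : Even N) :
    ∃ Z : Subgroup W, ∃ _ : Z.Normal, Z ≤ Subgroup.center W ∧ Odd (Nat.card Z) ∧ Nonempty (↥d.C ≃* W ⧸ Z) := by
  classical
  have hNpos : 0 < N := M.ord ▸ orderOf_pos M.δ
  have hz1 : d.z ≠ 1 := fun e => by
    have := hd.zord
    rw [e, orderOf_one] at this
    omega
  have mk : ∀ t : G, t ∈ d.C → t ^ N = 1 →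
      (∀ A B : SL[d], B.1 = g0.1 * A.1 * (g0⁻¹).1 → t * D.j A = D.j B * t) →
      ∃ ψ : W →* G, (∀ A n, ψ (M.i A * M.δ ^ n) = D.j A * t ^ n) ∧ ∀ A, ψ (M.i A) = D.j A := by
    intro t _ htN htc
    obtain ⟨ψ, hψ⟩ := exists_hom M.i M.δ (by rw [M.ord]; exact hNpos) M.disj M.gen (fun A => conjSL g0 A) M.conj
      D.j t (by rw [M.ord]; exact htN) fun A => htc A _ rfl
    exact ⟨ψ, hψ, fun A => by have := hψ A 0; simpa using this⟩
  -- the exponent of the scalar generator is odd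
  obtain ⟨m, hm⟩ := D.scal M.A0 M.A0_spec
  obtain ⟨ψ₀, hψ₀, hψ₀i⟩ := mk D.t D.tC D.tN D.tconj
  have hz : D.κ ^ (m * (N / 2)) = d.z := by
    rw [pow_mul, ← hm, ← hψ₀ M.A0 2, ← map_pow, M.half, hψ₀i, D.jz]
  obtain ⟨k, rfl⟩ : Odd m := by
    rw [← Nat.not_even_iff_odd]
    rintro ⟨k, rfl⟩
    obtain ⟨l, hl⟩ := hN
    rw [show (k + k) * (N / 2) = N * k by rw [hl, ← two_mul l, Nat.mul_div_cancel_left _ (by norm_num : 0 < 2)]; ring,
      pow_mul, D.κN, one_pow] at hz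
    exact hz1 hz.symm
  -- the adjusted element
  set e := k * (N - 1) with he
  set t' := D.t * D.κ ^ e with ht'
  have hκt : ∀ l : ℕ, Commute D.t (D.κ ^ l) := fun l => (show Commute D.κ D.t from D.κc _ D.tC).symm.pow_right l
  have hκi : D.κ ^ e * D.κ ^ k = 1 := by
    rw [← pow_add, he, show k * (N - 1) + k = N * k by
      obtain ⟨l, hl⟩ : ∃ l, N = l + 1 := ⟨N - 1, by omega⟩
      rw [hl, Nat.add_sub_cancel]; ring, pow_mul, D.κN, one_pow]
  have ht'C : t' ∈ d.C := mul_mem D.tC (pow_mem D.κC _)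
  have ht'N : t' ^ N = 1 := by
    rw [ht', (hκt e).mul_pow, D.tN, one_mul, ← pow_mul, mul_comm, pow_mul, D.κN, one_pow]
  have ht'c : ∀ A B : SL[d], B.1 = g0.1 * A.1 * (g0⁻¹).1 → t' * D.j A = D.j B * t' := fun A B hB => by
    rw [ht', mul_assoc, ((show Commute D.κ (D.j A) from D.κc _ (D.jC A)).pow_left e).eq, ← mul_assoc, D.tconj A B hB,
      mul_assoc]
  obtain ⟨ψ, hψ, hψi⟩ := mk t' ht'C ht'N ht'c
  have hψκ : ψ (M.i M.A0 * M.δ ^ 2) = D.κ := by
    rw [hψ, ht', (hκt e).mul_pow, ← mul_assoc, hm, ← pow_mul, ← pow_add, show 2 * k + 1 + e * 2 = 1 + 2 * (e + k) by ring,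
      pow_add, pow_one, mul_comm 2, pow_mul, pow_add, hκi, one_pow, mul_one]
  have hψt : D.t ∈ ψ.range := by
    refine ⟨M.i 1 * M.δ ^ 1 * (M.i M.A0 * M.δ ^ 2) ^ k, ?_⟩
    rw [map_mul, map_pow, hψκ, hψ, map_one, one_mul, pow_one, ht', mul_assoc, hκi, mul_one]
  have hrange : ψ.range = d.C := by
    refine le_antisymm ?_ fun c hc => ?_
    · rintro _ ⟨w, rfl⟩
      obtain ⟨A, n, rfl⟩ := M.gen w
      rw [hψ]
      exact mul_mem (D.jC A) (pow_mem ht'C n)
    · obtain ⟨A, i, l, rfl⟩ := D.span c hc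
      exact mul_mem (mul_mem (MonoidHom.mem_range.mpr ⟨_, hψi A⟩) (pow_mem hψt i))
        (pow_mem (MonoidHom.mem_range.mpr ⟨_, hψκ⟩) l)
  have hcen : ψ.ker ≤ Subgroup.center W := by
    intro w hw
    obtain ⟨A, n, rfl⟩ := M.gen w
    refine M.cen A n (D.kerj A n (e * n) ?_)
    rw [MonoidHom.mem_ker, hψ, ht', (hκt e).mul_pow, ← mul_assoc, ← pow_mul] at hw
    exact hw
  have hodd : Odd (Nat.card ψ.ker) := by
    rw [← Nat.not_even_iff_odd, even_iff_two_dvd]
    intro hdvd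
    haveI : Fact (Nat.Prime 2) := ⟨Nat.prime_two⟩
    obtain ⟨y, hy⟩ := exists_prime_orderOf_dvd_card' (G := ↥ψ.ker) 2 hdvd
    rw [← Subgroup.orderOf_coe] at hy
    have h1 := M.invol _ (hcen y.2) hy
    have h2 : ψ (y : W) = 1 := y.2
    rw [h1, hψi, D.jz] at h2
    exact hz1 h2
  refine ⟨ψ.ker, inferInstance, hcen, hodd, ⟨?_⟩⟩
  exact ((QuotientGroup.quotientKerEquivRange ψ).trans (MulEquiv.subgroupCongr hrange)).symm

end CfsgLib.RankTwoModel.Shape
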