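import Cfsg.Agent.Lib.RankTwoModel.Invol
import Cfsg.Agent.Lib.RankTwoModel.Shape.Eta
import Cfsg.Agent.Lib.RankTwo.PairElem

/-!
The torus of a central extension: the centraliser with central core and no field part.

* `Ctx`: the hypotheses with an involution `u` of the centraliser;
* `Ctx.ker_central`: elements acting trivially are central;
* `Ctx.comm_of_cu`: elements centralising `u` act through the torus of `u`;
* `Ctx.eq_one_of_pair`: a central element centralising the conjugate centraliser is trivial;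
* `Ctx.core_bot`: `D ∩ O = 1`;
* `Ctx.exists_data`: `C = j(SL₂(q)) ⟨t⟩ ⟨κ⟩`.

Blueprint: `blueprint/RankTwo_P9.md` (central extension).
-/

set_option autoImplicit false
set_option linter.unusedSectionVars false
set_option linter.style.haveILetI false

namespace CfsgLib.RankTwoModel.Shape

open Cfsg Matrix
open scoped MatrixGroups

universe u

variable {G : Type u} [Group G] [Finite G] {d : Frame G} {R : Rep d} {u : G} {g : GL (Fin 2) d.F}

local notation "SL[" d "]" => Matrix.SpecialLinearGroup (Fin 2) (Frame.F d)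

/-- The hypotheses. -/
structure Ctx (R : Rep d) (u : G) (g : GL (Fin 2) d.F) : Prop where
  hyp : Hyp G
  spec : d.Spec
  hq : 3 < d.q
  central : ∀ o ∈ d.O, ∀ c ∈ d.C, o * c = c * o
  inner : ∀ c : ↥d.C, ∃ g : GL (Fin 2) d.F, ConjBy (R.σ c) g
  uC : u ∈ d.C
  uo : orderOf u = 2
  uz : u ≠ d.z
  conj_u : ConjBy (R.σ ⟨u, uC⟩) g
  trace : g.1.trace = 0
  nscalar : ∀ a : d.F, g.1 ≠ a • (1 : Matrix (Fin 2) (Fin 2) d.F)

namespace Ctx

variable (X : Ctx R u g)
include X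

theorem two : (2 : d.F) ≠ 0 := SL2Orders.two_ne_zero_of_odd X.spec.odd_card

theorem zz : d.z * d.z = 1 := by rw [← pow_two, ← X.spec.zord, pow_orderOf_eq_one]

theorem uu : u * u = 1 := by rw [← pow_two, ← X.uo, pow_orderOf_eq_one]

theorem uinv : u⁻¹ = u := inv_eq_of_mul_eq_one_right X.uu

theorem OD : ∀ x ∈ d.O, ∀ y ∈ d.D, x * y = y * x := fun x hx y hy => X.central x hx y (d.D_le hy)

theorem O_eq_one {o : G} (ho : o ∈ d.O) {n : ℕ} (h : o ^ 2 ^ n = 1) : o = 1 :=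
  orderOf_eq_one_iff.mp (Nat.eq_one_of_dvd_coprimes ((Nat.coprime_two_left.mpr d.O_odd).pow_left n)
    (orderOf_dvd_of_pow_eq_one h) (Subgroup.orderOf_dvd_natCard _ ho))

theorem O_sq {o : G} (ho : o ∈ d.O) (h : o * o = 1) : o = 1 :=
  X.O_eq_one ho (n := 1) (by rw [pow_one, pow_two, h])

/-- **Elements acting trivially are central.** -/
theorem ker_central {k : G} (hk : k ∈ d.C) (h1 : R.σ ⟨k, hk⟩ = 1) : ∀ c ∈ d.C, k * c = c * k := by
  intro c hc
  set o := k * c * k⁻¹ * c⁻¹ with ho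
  have hoO : o ∈ d.O := by
    have hcen := R.central_of_sigma X.spec X.hq X.hyp hk h1
    have h2 := Subgroup.mem_center_iff.mp hcen (QuotientGroup.mk' (oddCore ↥d.C) ⟨c, hc⟩)
    have h3 : QuotientGroup.mk' (oddCore ↥d.C) (⟨k, hk⟩ * ⟨c, hc⟩ * ⟨k, hk⟩⁻¹ * ⟨c, hc⟩⁻¹) = 1 := by
      rw [map_mul, map_mul, map_mul, map_inv, map_inv, ← h2]
      group
    exact ⟨_, (QuotientGroup.eq_one_iff _).mp h3, rfl⟩
  obtain ⟨a, m, hm, he⟩ := Nat.exists_eq_two_pow_mul_odd (orderOf_pos k).ne'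
  have hka : k ^ 2 ^ a ∈ d.O := by
    refine R.sigma_eq_one X.spec X.hq X.hyp (pow_mem hk _) ?_ ?_
    · rw [orderOf_pow' k (pow_ne_zero _ (by norm_num)), he, Nat.gcd_mul_right_left,
        Nat.mul_div_cancel_left _ (pow_pos (by norm_num) a)]
      exact hm
    · rw [show (⟨k ^ 2 ^ a, pow_mem hk _⟩ : ↥d.C) = ⟨k, hk⟩ ^ 2 ^ a from rfl, map_pow, h1, one_pow]
  have hcon : c * k * c⁻¹ = o⁻¹ * k := by rw [ho]; group
  have hpow : c * k ^ 2 ^ a * c⁻¹ = (o⁻¹) ^ 2 ^ a * k ^ 2 ^ a := by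
    rw [← conj_pow, hcon, (show Commute o⁻¹ k from X.central _ (inv_mem hoO) k hk).mul_pow]
  rw [← X.central _ hka c hc, mul_inv_cancel_right, right_eq_mul, inv_pow, inv_eq_one] at hpow
  have h1' := X.O_eq_one hoO hpow
  rw [ho, mul_inv_eq_one, mul_inv_eq_iff_eq_mul] at h1'
  exact h1'

omit X in
/-- Elements of `D` act by their images. -/
theorem conjBy_D {y : G} (hy : y ∈ d.L) :
    ConjBy (R.σ ⟨y, d.L_le hy⟩) (Matrix.SpecialLinearGroup.toGL (R.π ⟨y, hy⟩)) := fun A => by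
  rw [R.sigma_inner ⟨y, hy⟩ A]
  rfl

/-- A lift of an element fixed by `u` commutes with `u`. -/
theorem comm_lift {y : G} (hy : y ∈ d.L) (hA : Commute (R.π ⟨y, hy⟩).1 g.1) : y * u = u * y := by
  have hfix : R.σ ⟨u, X.uC⟩ (R.π ⟨y, hy⟩) = R.π ⟨y, hy⟩ := Subtype.ext (by
    rw [X.conj_u, ← hA.eq, Matrix.mul_assoc, Units.mul_inv, Matrix.mul_one])
  rw [R.compat] at hfix
  have ho : u * y * u⁻¹ * y⁻¹ ∈ d.O := (R.ker ⟨_, mul_mem (d.L_conj X.uC hy) (inv_mem hy)⟩).mp (by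
    show R.π (⟨u * y * u⁻¹, d.L_conj X.uC hy⟩ * ⟨y, hy⟩⁻¹) = 1
    rw [map_mul, map_inv, hfix, mul_inv_cancel])
  set o := u * y * u⁻¹ * y⁻¹ with hod
  have h1 : u * o * u⁻¹ = o := by rw [← X.central o ho u X.uC, mul_inv_cancel_right]
  have h2 : o * o = 1 := by
    calc o * o = (u * o * u⁻¹) * o := by rw [h1]
      _ = (u * u) * y * (u * u)⁻¹ * y⁻¹ := by rw [hod]; group
      _ = 1 := by rw [X.uu]; group
  have h3 := X.O_sq ho h2
  rw [hod, mul_inv_eq_one, mul_inv_eq_iff_eq_mul] at h3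
  exact h3.symm

/-- A lift of an element negated by `u` does not commute with `u`. -/
theorem not_comm_lift {y : G} (hy : y ∈ d.L) (hA : g.1 * (R.π ⟨y, hy⟩).1 = -((R.π ⟨y, hy⟩).1 * g.1)) :
    y * u ≠ u * y := by
  intro e
  have hfix : R.σ ⟨u, X.uC⟩ (R.π ⟨y, hy⟩) = R.π ⟨y, hy⟩ := by
    rw [R.compat]
    exact congrArg R.π (Subtype.ext (show u * y * u⁻¹ = y from mul_inv_eq_iff_eq_mul.mpr e.symm))
  have h1 : g.1 * (R.π ⟨y, hy⟩).1 = (R.π ⟨y, hy⟩).1 * g.1 := by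
    have h := congrArg Subtype.val hfix
    rw [X.conj_u] at h
    have h2 := congrArg (fun M => M * g.1) h
    simpa [Matrix.mul_assoc] using h2
  rw [hA] at h1
  have h0 : (2 : d.F) • ((R.π ⟨y, hy⟩).1 * g.1) = 0 := by
    rw [two_smul]
    conv_lhs => arg 1; rw [← h1]
    exact neg_add_cancel _
  have h4 := (smul_eq_zero.mp h0).resolve_left X.two
  have h5 := congrArg Matrix.det h4
  rw [Matrix.det_mul, (R.π ⟨y, hy⟩).2, one_mul, Matrix.det_zero] at h5
  exact GW.Model.det_ne g h5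

omit X in
theorem isSquare_mul {F : Type} [Field F] [Fintype F] (h2 : (2 : F) ≠ 0) {a b : F} (ha : ¬ IsSquare a)
    (hb : ¬ IsSquare b) : IsSquare (a * b) := by
  have hc : ringChar F ≠ 2 := fun e => h2 (by
    have := ringChar.Nat.cast_ringChar (R := F)
    rw [e] at this
    exact_mod_cast this)
  have ha0 : a ≠ 0 := fun e => ha (e ▸ IsSquare.zero)
  have hb0 : b ≠ 0 := fun e => hb (e ▸ IsSquare.zero)
  rw [FiniteField.isSquare_iff hc ha0] at ha
  rw [FiniteField.isSquare_iff hc hb0] at hb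
  rw [FiniteField.isSquare_iff hc (mul_ne_zero ha0 hb0), mul_pow,
    (FiniteField.pow_dichotomy hc ha0).resolve_left ha, (FiniteField.pow_dichotomy hc hb0).resolve_left hb]
  ring

/-- A matrix of square determinant acting as an element of `D` times one acting trivially. -/
theorem exists_split {c : G} (hc : c ∈ d.C) {h : GL (Fin 2) d.F} (hh : ConjBy (R.σ ⟨c, hc⟩) h)
    (hsq : IsSquare h.1.det) : ∃ y, ∃ hy : y ∈ d.D, ∃ r : d.F, r ≠ 0 ∧
      (R.π ⟨y, X.spec.D_le_L X.hq hy⟩).1 = r • h.1 ∧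
      ∀ hk : y⁻¹ * c ∈ d.C, R.σ ⟨y⁻¹ * c, hk⟩ = 1 := by
  obtain ⟨r, hr⟩ := hsq
  have hr0 : r ≠ 0 := fun e => GW.Model.det_ne h (by rw [hr, e, mul_zero])
  obtain ⟨y, hy, hyA⟩ := R.surj_D X.spec X.hq ⟨r⁻¹ • h.1, by
    rw [Matrix.det_smul, Fintype.card_fin, hr]; field_simp⟩
  refine ⟨y, hy, r⁻¹, inv_ne_zero hr0, congrArg Subtype.val hyA, fun hk => ?_⟩
  rw [show (⟨y⁻¹ * c, hk⟩ : ↥d.C) = ⟨y, d.D_le hy⟩⁻¹ * ⟨c, hc⟩ from rfl, map_mul, map_inv, inv_mul_eq_one]
  have h1 : ConjBy (R.σ ⟨y, d.D_le hy⟩) h :=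
    (conjBy_D (R := R) (X.spec.D_le_L X.hq hy)).smul (a := r) hr0 (by
      show h.1 = r • (R.π ⟨y, X.spec.D_le_L X.hq hy⟩).1
      rw [hyA, smul_smul, mul_inv_cancel₀ hr0, one_smul])
  exact MulEquiv.ext fun A => Subtype.ext ((h1 A).trans (hh A).symm)

/-- **Elements centralising `u` act through the torus of `u`.** -/
theorem comm_of_cu {c : G} (hc : c ∈ d.C) (hcu : c * u = u * c) {h : GL (Fin 2) d.F}
    (hh : ConjBy (R.σ ⟨c, hc⟩) h) : Commute h.1 g.1 := by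
  haveI : Fact (Nat.Prime 2) := ⟨Nat.prime_two⟩
  have hcomm : R.σ ⟨c, hc⟩ * R.σ ⟨u, X.uC⟩ = R.σ ⟨u, X.uC⟩ * R.σ ⟨c, hc⟩ := by
    rw [← map_mul, ← map_mul]; exact congrArg R.σ (Subtype.ext hcu)
  obtain ⟨a, ha, e⟩ := ((X.conj_u.mul hh)).unique (hcomm ▸ hh.mul X.conj_u)
  rw [Units.val_mul, Units.val_mul] at e
  have ha2 : (a - 1) * (a + 1) = 0 := by
    have e2 := congrArg Matrix.det e
    rw [Matrix.det_mul, Matrix.det_smul, Fintype.card_fin, Matrix.det_mul] at e2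
    have hd : g.1.det * h.1.det ≠ 0 := mul_ne_zero (GW.Model.det_ne g) (GW.Model.det_ne h)
    have : (a ^ 2 - 1) * (g.1.det * h.1.det) = 0 := by linear_combination -e2
    have := (mul_eq_zero.mp this).resolve_right hd
    linear_combination this
  rcases mul_eq_zero.mp ha2 with h1 | h1
  · rw [sub_eq_zero.mp h1, one_smul] at e
    exact e
  exfalso
  rw [eq_neg_of_add_eq_zero_left h1, neg_one_smul] at e
  -- `h` anticommutes with `g`
  have hanti : g.1 * h.1 = -(h.1 * g.1) := by rw [e, neg_neg]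
  by_cases hdg : IsSquare g.1.det
  · obtain ⟨r, hr⟩ := hdg
    have hr0 : r ≠ 0 := fun e0 => GW.Model.det_ne g (by rw [hr, e0, mul_zero])
    obtain ⟨y₀, hy₀, hyA⟩ := R.surj_D X.spec X.hq ⟨r⁻¹ • g.1, by
      rw [Matrix.det_smul, Fintype.card_fin, hr]; field_simp⟩
    set A : SL[d] := ⟨r⁻¹ • g.1, _⟩
    have hy₀L := X.spec.D_le_L X.hq hy₀
    have hgg : g.1 * g.1 = (-g.1.det) • (1 : Matrix (Fin 2) (Fin 2) d.F) := by
      have ht := X.trace
      rw [Matrix.trace_fin_two] at ht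
      ext i j
      fin_cases i <;> fin_cases j <;> simp [Matrix.mul_apply, Fin.sum_univ_two, Matrix.det_fin_two]
      · linear_combination (g.1 0 0) * ht
      · linear_combination (g.1 0 1) * ht
      · linear_combination (g.1 1 0) * ht
      · linear_combination (g.1 1 1) * ht
    have hA2 : A * A = -1 := by
      refine Subtype.ext ?_
      show (r⁻¹ • g.1) * (r⁻¹ • g.1) = -1
      rw [Matrix.smul_mul, Matrix.mul_smul, smul_smul, hgg, smul_smul, hr,
        show r⁻¹ * r⁻¹ * -(r * r) = -1 by field_simp, neg_one_smul]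
    have hzL := X.spec.z_mem_L
    have ho : d.z⁻¹ * (y₀ * y₀) ∈ d.O := (R.ker ⟨_, mul_mem (inv_mem hzL) (mul_mem hy₀L hy₀L)⟩).mp (by
      show R.π (⟨d.z, hzL⟩⁻¹ * (⟨y₀, hy₀L⟩ * ⟨y₀, hy₀L⟩)) = 1
      rw [map_mul, map_inv, map_mul, hyA, hA2, R.pi_z X.spec, inv_mul_cancel])
    set n := Nat.card d.O with hn
    obtain ⟨j, hj⟩ : Odd n := d.O_odd
    set y := y₀ ^ n with hy
    have hyL : y ∈ d.L := pow_mem hy₀L n
    have hy2 : y * y = d.z := by
      rw [hy, ← pow_add, ← two_mul, pow_mul, pow_two,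
        show y₀ * y₀ = d.z * (d.z⁻¹ * (y₀ * y₀)) by rw [mul_inv_cancel_left],
        (show Commute d.z (d.z⁻¹ * (y₀ * y₀)) from (X.central _ ho _ Frame.Spec.z_mem_C).symm).mul_pow,
        show (d.z⁻¹ * (y₀ * y₀)) ^ n = 1 from congrArg Subtype.val (pow_card_eq_one' (x := (⟨_, ho⟩ : d.O))),
        mul_one, hj, pow_succ, pow_mul, pow_two, X.zz, one_pow, one_mul]
    have hπy : R.π ⟨y, hyL⟩ = A ^ n := by
      rw [← hyA, ← map_pow]; rfl
    have hAn : A ^ n = A ^ (2 * j) * A := by rw [hj, pow_succ]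
    have hA2j : A ^ (2 * j) = 1 ∨ A ^ (2 * j) = -1 := by
      rw [pow_mul, pow_two, hA2]; exact neg_one_pow_eq_or _ j
    obtain ⟨ε, hε, hπy'⟩ : ∃ ε : d.F, ε ≠ 0 ∧ (R.π ⟨y, hyL⟩).1 = ε • g.1 := by
      rcases hA2j with e' | e'
      · exact ⟨r⁻¹, inv_ne_zero hr0, by rw [hπy, hAn, e', one_mul]⟩
      · refine ⟨-r⁻¹, neg_ne_zero.mpr (inv_ne_zero hr0), ?_⟩
        rw [hπy, hAn, e', neg_one_mul, Matrix.SpecialLinearGroup.coe_neg, neg_smul]
    have hyu : y * u = u * y := X.comm_lift hyL (by rw [hπy']; exact (Commute.refl _).smul_left ε)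
    have hyC := d.L_le hyL
    -- `c` inverts `y`
    have hinv : c * y * c⁻¹ = y⁻¹ := by
      have hyy : R.π ⟨c * y * c⁻¹, d.L_conj hc hyL⟩ = (R.π ⟨y, hyL⟩)⁻¹ := by
        rw [← R.compat ⟨c, hc⟩ ⟨y, hyL⟩, eq_comm, inv_eq_iff_mul_eq_one]
        refine Subtype.ext ?_
        have h2' := congrArg Matrix.det hπy'
        rw [(R.π ⟨y, hyL⟩).2, Matrix.det_smul, Fintype.card_fin] at h2'
        have hconj : h.1 * g.1 * (h⁻¹).1 = -g.1 := by
          rw [e, Matrix.neg_mul, Matrix.mul_assoc, Units.mul_inv, Matrix.mul_one]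
        rw [Matrix.SpecialLinearGroup.coe_mul, hh, hπy', Matrix.SpecialLinearGroup.coe_one]
        calc ε • g.1 * (h.1 * (ε • g.1) * (h⁻¹).1) = (ε * ε) • (g.1 * (h.1 * g.1 * (h⁻¹).1)) := by
              simp only [Matrix.mul_smul, Matrix.smul_mul, smul_smul]
          _ = (ε * ε * g.1.det) • 1 := by rw [hconj, Matrix.mul_neg, hgg, ← neg_smul, neg_neg, smul_smul]
          _ = 1 := by rw [show ε * ε * g.1.det = 1 by linear_combination -h2', one_smul]
      have ho' : y * (c * y * c⁻¹) ∈ d.O := (R.ker ⟨_, mul_mem hyL (d.L_conj hc hyL)⟩).mp (by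
        show R.π (⟨y, hyL⟩ * ⟨c * y * c⁻¹, d.L_conj hc hyL⟩) = 1
        rw [map_mul, hyy, mul_inv_cancel])
      set o := y * (c * y * c⁻¹) with hod
      have hoy : Commute o y := X.central o ho' y hyC
      have h2 : o * o = 1 := by
        have e1 : c * y * c⁻¹ = y⁻¹ * o := by rw [hod]; group
        have e2 : c * (y * y) * c⁻¹ = d.z := by
          rw [hy2, Frame.Spec.z_central hc, mul_inv_cancel_right]
        rw [show c * (y * y) * c⁻¹ = (c * y * c⁻¹) * (c * y * c⁻¹) by group, e1,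
          hoy.inv_right.mul_mul_mul_comm, ← _root_.mul_inv_rev, hy2, inv_eq_of_mul_eq_one_right X.zz, mul_eq_left] at e2
        exact e2
      have h3 := X.O_sq ho' h2
      rw [hod] at h3
      exact eq_inv_of_mul_eq_one_right h3
    -- the two-part of `c` inverts it too
    obtain ⟨k, m, ⟨i, hi⟩, he⟩ := Nat.exists_eq_two_pow_mul_odd (orderOf_pos c).ne'
    set c₂ := c ^ m with hc₂
    have hc₂y : c₂ * y * c₂⁻¹ = y⁻¹ := by
      have hcc : Commute (c * c) y := mul_inv_eq_iff_eq_mul.mp (by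
        rw [show c * c * y * (c * c)⁻¹ = c * (c * y * c⁻¹) * c⁻¹ by group, hinv,
          show c * y⁻¹ * c⁻¹ = (c * y * c⁻¹)⁻¹ by group, hinv, inv_inv])
      rw [hc₂, hi, pow_succ', pow_mul, pow_two,
        show c * (c * c) ^ i * y * (c * (c * c) ^ i)⁻¹ = c * ((c * c) ^ i * y * ((c * c) ^ i)⁻¹) * c⁻¹ by group,
        (hcc.pow_left i).eq, mul_inv_cancel_right, hinv]
    have hy4 : y ^ 2 ^ 2 = 1 := by rw [show 2 ^ 2 = 2 * 2 from rfl, pow_mul, pow_two y, hy2, pow_two, X.zz]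
    have hyP : IsPGroup 2 (Subgroup.zpowers y) := by
      obtain ⟨m', -, hm'⟩ := (Nat.dvd_prime_pow Nat.prime_two).mp (orderOf_dvd_of_pow_eq_one hy4)
      exact IsPGroup.of_card (n := m') (by rw [Nat.card_zpowers, hm'])
    have hcP : IsPGroup 2 (Subgroup.zpowers c₂) := by
      have h1 : c₂ ^ 2 ^ k = 1 := by rw [hc₂, ← pow_mul, mul_comm, ← he, pow_orderOf_eq_one]
      obtain ⟨m', -, hm'⟩ := (Nat.dvd_prime_pow Nat.prime_two).mp (orderOf_dvd_of_pow_eq_one h1)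
      exact IsPGroup.of_card (n := m') (by rw [Nat.card_zpowers, hm'])
    have hnorm : Subgroup.zpowers c₂ ≤ Subgroup.normalizer (Subgroup.zpowers y : Set G) :=
      Subgroup.zpowers_le.mpr (Subgroup.mem_normalizer_fintype fun x hx => by
        obtain ⟨l, rfl⟩ := Subgroup.mem_zpowers_iff.mp hx
        rw [← conj_zpow, hc₂y]
        exact Subgroup.zpow_mem _ (inv_mem (Subgroup.mem_zpowers y)) l)
    have hsup : Subgroup.zpowers y ⊔ Subgroup.zpowers c₂ ≤ d.C ⊓ Subgroup.centralizer ({u} : Set G) :=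
      sup_le (Subgroup.zpowers_le.mpr ⟨hyC, Subgroup.mem_centralizer_singleton_iff.mpr hyu⟩)
        (Subgroup.zpowers_le.mpr ⟨pow_mem hc m,
          Subgroup.mem_centralizer_singleton_iff.mpr (Commute.pow_left (show Commute c u from hcu) m).eq⟩)
    have hcomm2 := X.hyp.comm_two X.spec.zord X.uo (Frame.Spec.z_central X.uC).symm X.uz
      (hyP.to_sup_of_normal_left' hcP hnorm) (fun x hx => Frame.Spec.z_central (hsup hx).1)
      (fun x hx => Subgroup.mem_centralizer_singleton_iff.mp (hsup hx).2) c₂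
      (Subgroup.mem_sup_right (Subgroup.mem_zpowers _)) y (Subgroup.mem_sup_left (Subgroup.mem_zpowers _))
    rw [hcomm2, mul_inv_cancel_right] at hc₂y
    have : d.z = 1 := by rw [← hy2]; exact mul_eq_one_iff_eq_inv.mpr hc₂y
    exact absurd X.spec.zord (by rw [this, orderOf_one]; norm_num)
  · -- some anticommuting element has square determinant
    obtain ⟨c', hc', hc'u, h', hh', hanti', hsq⟩ : ∃ (c' : G) (hc' : c' ∈ d.C) (_ : c' * u = u * c')
        (h' : GL (Fin 2) d.F) (_ : ConjBy (R.σ ⟨c', hc'⟩) h') (_ : g.1 * h'.1 = -(h'.1 * g.1)),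
        IsSquare h'.1.det := by
      by_cases hdh : IsSquare h.1.det
      · exact ⟨c, hc, hcu, h, hh, hanti, hdh⟩
      · refine ⟨c * u, mul_mem hc X.uC, by rw [mul_assoc, ← mul_assoc u, ← hcu, mul_assoc], h * g, ?_, ?_, ?_⟩
        · rw [show (⟨c * u, mul_mem hc X.uC⟩ : ↥d.C) = ⟨c, hc⟩ * ⟨u, X.uC⟩ from rfl, map_mul]
          exact hh.mul X.conj_u
        · rw [Units.val_mul, ← Matrix.mul_assoc, hanti, Matrix.neg_mul]
        · rw [Units.val_mul, Matrix.det_mul]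
          exact isSquare_mul X.two hdh hdg
    obtain ⟨y, hy, r, hr, hyh, hk⟩ := X.exists_split hc' hh' hsq
    have hkC : y⁻¹ * c' ∈ d.C := mul_mem (inv_mem (d.D_le hy)) hc'
    have hku := X.ker_central hkC (hk hkC) u X.uC
    refine X.not_comm_lift (X.spec.D_le_L X.hq hy) ?_ ?_
    · rw [hyh, Matrix.mul_smul, hanti', Matrix.smul_mul, smul_neg]
    · have h4 := Commute.mul_left (show Commute c' u from hc'u) (show Commute (y⁻¹ * c') u from hku).inv_left
      rw [show c' * (y⁻¹ * c')⁻¹ = y by group] at h4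
      exact h4

/-! ### The map to the torus -/

/-- `eta` of a matrix inducing the action. -/
noncomputable def tau (c : ↥d.C) : SL[d] := eta (X.inner c).choose

theorem tau_eq {c : ↥d.C} {h : GL (Fin 2) d.F} (hh : ConjBy (R.σ c) h) : X.tau c = eta h := by
  obtain ⟨a, ha, e⟩ := hh.unique (X.inner c).choose_spec
  exact eta_smul ha e

theorem tau_comm {c : G} (hc : c ∈ d.C) (hcu : c * u = u * c) : Commute (X.tau ⟨c, hc⟩).1 g.1 :=
  eta_commute (X.comm_of_cu hc hcu (X.inner ⟨c, hc⟩).choose_spec)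

theorem tau_mul {c c' : G} (hc : c ∈ d.C) (hcu : c * u = u * c) (hc' : c' ∈ d.C)
    (hcu' : c' * u = u * c') : X.tau ⟨c * c', mul_mem hc hc'⟩ = X.tau ⟨c, hc⟩ * X.tau ⟨c', hc'⟩ := by
  obtain ⟨h, hh⟩ := X.inner ⟨c, hc⟩
  obtain ⟨h', hh'⟩ := X.inner ⟨c', hc'⟩
  rw [X.tau_eq hh, X.tau_eq hh', X.tau_eq (c := ⟨c * c', mul_mem hc hc'⟩) (h := h * h') (by
    rw [show (⟨c * c', mul_mem hc hc'⟩ : ↥d.C) = ⟨c, hc⟩ * ⟨c', hc'⟩ from rfl, map_mul]
    exact hh.mul hh')]
  refine eta_mul ?_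
  obtain ⟨a, b, e⟩ := SL2Centralizer.exists_of_commute X.nscalar (X.comm_of_cu hc hcu hh)
  rw [e]
  exact ((Commute.one_left _).smul_left a).add_left ((X.comm_of_cu hc' hcu' hh').symm.smul_left b)

theorem sigma_eq_one_of_tau {c : G} (hc : c ∈ d.C) (h1 : X.tau ⟨c, hc⟩ = 1) : R.σ ⟨c, hc⟩ = 1 := by
  obtain ⟨h, hh⟩ := X.inner ⟨c, hc⟩
  rw [X.tau_eq hh] at h1
  obtain ⟨a, ha, e⟩ := scalar_of_eta X.two h1
  exact MulEquiv.ext fun A => Subtype.ext ((hh A).trans ((conjBy_one.smul ha e) A).symm)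

/-- **A central element centralising the conjugate centraliser is trivial.** -/
theorem eq_one_of_pair {s : G} (hsz : s * d.z * s⁻¹ = u) {x : G} (hx : x ∈ d.C) (h1 : R.σ ⟨x, hx⟩ = 1)
    (hxs : ∀ c ∈ d.C, x * (s * c * s⁻¹) = s * c * s⁻¹ * x) : x = 1 := by
  haveI : Fact (Nat.Prime 2) := ⟨Nat.prime_two⟩
  have hcm : u * d.z = d.z * u := Frame.Spec.z_central X.uC
  by_cases hodd : Odd (orderOf x)
  · exact X.hyp.pair_trivial_elem X.spec X.hq X.OD (g := s) (by rw [hsz]; exact X.uz) (by rw [hsz, hcm]) hodd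
      (fun y hy => X.ker_central hx h1 y (d.D_le hy)) fun y hy => hxs y (d.D_le hy)
  exfalso
  have h2 : 2 ∣ orderOf x := even_iff_two_dvd.mp (Nat.not_odd_iff_even.mp hodd)
  set i := x ^ (orderOf x / 2)
  have hio : orderOf i = 2 := orderOf_pow_orderOf_div (orderOf_pos x).ne' h2
  have hiC : i ∈ d.C := pow_mem hx _
  have hiz : i = d.z := by
    by_contra hne
    refine R.sigma_ne_one X.spec X.hq X.hyp hiC hio hne ?_
    rw [show (⟨i, hiC⟩ : ↥d.C) = ⟨x, hx⟩ ^ (orderOf x / 2) from rfl, map_pow, h1, one_pow]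
  obtain ⟨s', hs', hs'z⟩ := X.hyp.swap X.uo X.spec.zord hcm X.uz.symm
  have hc : s⁻¹ * s' * s ∈ d.C := Subgroup.mem_centralizer_singleton_iff.mpr (by
    have e : s' * u = u * s' := Subgroup.mem_centralizer_singleton_iff.mp hs'
    rw [← hsz] at e
    calc s⁻¹ * s' * s * d.z = s⁻¹ * (s' * (s * d.z * s⁻¹)) * s := by group
      _ = s⁻¹ * ((s * d.z * s⁻¹) * s') * s := by rw [e]
      _ = d.z * (s⁻¹ * s' * s) := by group)
  have hcs : Commute i s' := by
    refine Commute.pow_left ?_ _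
    have := hxs _ hc
    rwa [show s * (s⁻¹ * s' * s) * s⁻¹ = s' by group] at this
  rw [hiz] at hcs
  rw [← hcs.eq, mul_inv_cancel_right, right_eq_mul] at hs'z
  exact absurd X.uo (by rw [hs'z, orderOf_one]; norm_num)

end Ctx

end CfsgLib.RankTwoModel.Shape
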